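import Cfsg.Agent.Omega.NO3S.Act.NTwo.CaseTwo

/-!
# THEOREM N (#21337), CASE 1: a bad line `L^(g p)`, `g ∈ P'`, `p ∈ P` generic, is impossible

* `Sit.one` **(1)** : `[L^(g p) ∩ E, B] = 1`;
* `Sit.exists_off` : `B^((g p)⁻¹)` contains a minimal offender on `L`;
* `Sit.false_of_bad` **(2), (3)**;
* `Sit.main` : **`P'` normalises `L`**.
-/

set_option autoImplicit false
set_option linter.unusedSectionVars false

namespace Cfsg.Agent.Omega.NO3S.NTwo

open Subgroup Cfsg Cfsg.Agent.Omega.NoFF.Basic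
open Cfsg.Agent.Omega.NOne.Flat (Hyp EE WW NN BadX)
open Cfsg.Agent.Omega.NOThreeL.Low.Key (BH conj_eq_of_norm' norm_conj_mem c_eq_one' comm_of_c c_mem_left)
open Cfsg.Agent.Omega.NOThreeL.NF (MinOffM RP)
open Cfsg.Agent.Omega.NO3S.Pas (mem_sup_of_norm)
open Cfsg.Agent.Omega.FFThm (ElemM OffM)
open Cfsg.Agent.ZN (o2)
open scoped Pointwise commutatorElement

universe u

local notation "cm" => Cfsg.Agent.Omega.NOne.NearFF.c

variable {G : Type u} [Group G] [Finite G]

theorem card_inf_mul (X C : Subgroup G) : Nat.card ↥(X ⊓ C) * C.relIndex X = Nat.card X := by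
  have h1 := NOne.Flat.card_mul_relIndex' (A := X ⊓ C) (B := X) inf_le_left
  rwa [inf_comm X C, inf_relIndex_right, inf_comm C X] at h1

/-- minimal offenders exist -/
theorem exists_minOffM {L S A : Subgroup G} (hA : A ≤ S) (ho : OffM L A) :
    ∃ A₀ ≤ A, MinOffM L S A₀ := by
  classical
  obtain ⟨n, hn⟩ : ∃ n, n = (centralizer (L : Set G)).relIndex A := ⟨_, rfl⟩
  induction n using Nat.strong_induction_on generalizing A with
  | _ n ih =>
    by_cases hmin : ∀ B : Subgroup G, B ≤ A → OffM L B →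
        (centralizer (L : Set G)).relIndex A ≤ (centralizer (L : Set G)).relIndex B
    · exact ⟨A, le_rfl, hA, ho, hmin⟩
    · push Not at hmin
      obtain ⟨B, hBA, hB, hlt⟩ := hmin
      obtain ⟨A₀, h1, h2⟩ := ih _ (by rw [hn]; exact hlt) (hBA.trans hA) hB rfl
      exact ⟨A₀, h1.trans hBA, h2⟩

/-- conjugates of minimal offenders, `s ∈ S` -/
theorem MinOffM.conj' {L S A : Subgroup G} (hm : MinOffM L S A) {s : G} (hs : s ∈ S)
    (hL : s ∈ normalizer (L : Set G)) : MinOffM L S (MulAut.conj s • A) := by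
  have hLs : MulAut.conj s • L = L := conj_eq_of_norm' hL
  have hLs' : MulAut.conj s⁻¹ • L = L := conj_eq_of_norm' (inv_mem hL)
  have hcL : MulAut.conj s • centralizer (L : Set G) = centralizer (L : Set G) := by
    ext x
    rw [mem_conj]
    have h1 := mem_cent_conj (g := s) (x := x) (A := L)
    rw [hLs] at h1
    exact h1.symm
  have off_conj : ∀ (r : G), r ∈ normalizer (L : Set G) → ∀ B : Subgroup G, OffM L B →
      OffM L (MulAut.conj r • B) := by
    intro r hr B hB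
    have hLr : MulAut.conj r • L = L := conj_eq_of_norm' hr
    have hcr : MulAut.conj r • centralizer (L : Set G) = centralizer (L : Set G) := by
      ext x
      rw [mem_conj]
      have h1 := mem_cent_conj (g := r) (x := x) (A := L)
      rw [hLr] at h1
      exact h1.symm
    have hcr' : ∀ y : G, y ∈ centralizer (L : Set G) → r * y * r⁻¹ ∈ centralizer (L : Set G) := by
      intro y hy
      rw [← hcr]
      exact mem_conj_smul hy
    have e1 : MulAut.conj r • B ⊓ centralizer (L : Set G) = MulAut.conj r • (B ⊓ centralizer (L : Set G)) := by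
      rw [Subgroup.smul_inf, hcr]
    have e2 : L ⊓ centralizer ((MulAut.conj r • B : Subgroup G) : Set G) =
        MulAut.conj r • (L ⊓ centralizer (B : Set G)) := by
      rw [Subgroup.smul_inf, hLr]
      congr 1
      ext x
      rw [mem_cent_conj, mem_conj]
    refine { sq := ?_, comm := ?_, ne := ?_, le := ?_ }
    · intro a ha
      have h1 := hcr' _ (hB.sq _ (mem_conj.1 ha))
      have e : r * (r⁻¹ * a * r) ^ 2 * r⁻¹ = a ^ 2 := by rw [pow_two, pow_two]; group
      rwa [e] at h1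
    · intro a ha b hb
      have h1 := hcr' _ (hB.comm _ (mem_conj.1 ha) _ (mem_conj.1 hb))
      have e : r * (r⁻¹ * a * r * (r⁻¹ * b * r) * (r⁻¹ * a * r)⁻¹ * (r⁻¹ * b * r)⁻¹) * r⁻¹ =
          a * b * a⁻¹ * b⁻¹ := by group
      rwa [e] at h1
    · intro h1
      refine hB.ne fun b hb => ?_
      have h2 := h1 (mem_conj_smul (g := r) hb)
      rw [← hcr, mem_conj] at h2
      have e : r⁻¹ * (r * b * r⁻¹) * r = b := by group
      rwa [e] at h2
    · rw [e1, e2, NOne.Choice.card_conj, NOne.Choice.card_conj, NOne.Choice.card_conj]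
      exact hB.le
  refine ⟨?_, off_conj s hL A hm.off, ?_⟩
  · intro x hx
    have h1 := hm.le (mem_conj.1 hx)
    have e : x = s * (s⁻¹ * x * s) * s⁻¹ := by group
    rw [e]
    exact mul_mem (mul_mem hs h1) (inv_mem hs)
  · intro B hB hoB
    have h1 : MulAut.conj s⁻¹ • B ≤ A := by
      have h2 := (conj_le_iff (g := s⁻¹)).2 hB
      rwa [conj_conj, inv_mul_cancel, map_one, one_smul] at h2
    have h2 := hm.min _ h1 (off_conj s⁻¹ (inv_mem hL) B hoB)
    have e1 : (centralizer (L : Set G)).relIndex (MulAut.conj s • A) =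
        (centralizer (L : Set G)).relIndex A := by
      conv_lhs => rw [← hcL]
      exact relIndex_pointwise_smul (MulAut.conj s) _ _
    have e2 : (centralizer (L : Set G)).relIndex (MulAut.conj s⁻¹ • B) =
        (centralizer (L : Set G)).relIndex B := by
      have h3 : (MulAut.conj s • centralizer (L : Set G)).relIndex (MulAut.conj s • (MulAut.conj s⁻¹ • B)) =
          (centralizer (L : Set G)).relIndex (MulAut.conj s⁻¹ • B) :=
        relIndex_pointwise_smul (MulAut.conj s) _ _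
      rw [hcL, conj_conj, mul_inv_cancel, map_one, one_smul] at h3
      exact h3.symm
    rw [e1, ← e2]
    exact h2

namespace Sit

variable {S V F B P P' L : Subgroup G} (h : Sit S V F B P P' L)
include h

theorem not_I_le_F : ¬ V ⊓ B ≤ F := by
  intro h1
  apply h.mov
  intro s hs
  rw [mem_centralizer_iff]
  intro l hl
  exact Hyp.F_comm (h1 (h.L_le_I hl)) (Hyp.W_le_X hs)

theorem conj_eq_LP {p : G} (hp : p ∈ P) : MulAut.conj p • L = L := conj_eq_of_norm' (h.PL hp)

variable {p : G} (hp : Gn S V F P L p) {g : G} (hg : g ∈ P')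
  (hBS : B ≤ MulAut.conj (p * g) • S)
include hp hg hBS

theorem line_le_V : MulAut.conj (p * g) • L ≤ V := by
  have h1 := (conj_le_iff (g := p)).2 (h.conjLV hg)
  rwa [conj_conj, conj_eq_of_norm' (h.PV hp.mem)] at h1

theorem norm_line {b : G} (hb : b ∈ MulAut.conj (p * g) • S) :
    b ∈ normalizer ((MulAut.conj (p * g) • L : Subgroup G) : Set G) := by
  have h1 := h.PL (h.SP (mem_conj.1 hb))
  refine norm_of_conj_mem' (fun a ha => ?_) fun a ha => ?_
  · have h2 := norm_conj_mem h1 (mem_conj.1 ha)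
    rw [mem_conj]
    have e : (p * g)⁻¹ * (b * a * b⁻¹) * (p * g) =
        (p * g)⁻¹ * b * (p * g) * ((p * g)⁻¹ * a * (p * g)) * ((p * g)⁻¹ * b * (p * g))⁻¹ := by group
    rwa [e]
  · have h2 := norm_conj_mem (inv_mem h1) (mem_conj.1 ha)
    rw [mem_conj]
    have e : (p * g)⁻¹ * (b⁻¹ * a * b) * (p * g) =
        ((p * g)⁻¹ * b * (p * g))⁻¹ * ((p * g)⁻¹ * a * (p * g)) * ((p * g)⁻¹ * b * (p * g))⁻¹⁻¹ := by group
    rwa [e]

theorem Q_le : S ⊓ centralizer (L : Set G) ≤ MulAut.conj (p * g) • S := by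
  have h1 := (conj_le_iff (g := p)).2 (h.QS g hg)
  rwa [conj_conj, conj_eq_of_norm' (h.PQ hp.mem)] at h1

/-- **(1)** `[L^(g p) ∩ E, B] = 1` -/
theorem one {e b : G} (he : e ∈ MulAut.conj (p * g) • L) (heE : e ∈ EE V F) (hb : b ∈ B) : cm e b = 1 := by
  by_contra hne
  obtain ⟨w, hw, hwE⟩ := h.toHyp.exists_not_mem
  obtain ⟨s, hs, hse⟩ := h.toHyp.surj hw hwE heE
  have hbW := h.le_W hb
  have h1 : cm e b = cm (cm w b) s := by
    rw [h.toHyp.beta_comm hw hbW hs]
    refine (h.toHyp.c_congr_left (h.toHyp.c_memV hw hs) heE.1 hbW ?_).symm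
    exact h.toHyp.inv_mul_mem (h.toHyp.c_memV hw hs) heE.1 hse
  have hmem : cm e b ∈ ⁅L, WW V F⁆ := by
    rw [h1]
    exact h.c_mem_LW (h.toBH.c_memI hw hb) hs
  -- `t = p⁻¹ [e, b] p`
  set t : G := p⁻¹ * cm e b * p with ht
  have htL : t ∈ L := by
    have := norm_conj_mem (h.PL (inv_mem hp.mem)) (h.LW_le hmem)
    rwa [inv_inv] at this
  have hline : cm e b ∈ MulAut.conj (p * g) • L := c_mem_left he (h.norm_line hp hg hBS (hBS hb))
  have htg : t ∈ MulAut.conj g • L := by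
    rw [mem_conj] at hline ⊢
    have e1 : g⁻¹ * t * g = (p * g)⁻¹ * cm e b * (p * g) := by rw [ht]; group
    rwa [e1]
  have hex : ∃ s ∈ S, ¬ MulAut.conj s • WW V F ≤ centralizer ({t} : Set G) := by
    by_contra hall
    push Not at hall
    have h2 := hp.dis t htL hall (by
      have e1 : p * t * p⁻¹ = cm e b := by rw [ht]; group
      rwa [e1])
    apply hne
    have e1 : cm e b = p * t * p⁻¹ := by rw [ht]; group
    rw [e1, h2]
    group
  obtain ⟨s, hs, hns⟩ := hex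
  have hns' : t ∉ centralizer ((MulAut.conj s • WW V F : Subgroup G) : Set G) := by
    intro h2
    refine hns fun w hw => ?_
    rw [mem_centralizer_iff]
    rintro _ rfl
    exact (mem_centralizer_iff.1 h2 w hw).symm
  -- `q = p⁻¹ b p ∈ Q`
  have hq : p⁻¹ * b * p ∈ S ⊓ centralizer (L : Set G) := by
    have := norm_conj_mem (h.PQ (inv_mem hp.mem)) (h.B_le_Q hb)
    rwa [inv_inv] at this
  have hl : p⁻¹ * e * p ∈ MulAut.conj g • L := by
    rw [mem_conj] at he ⊢
    have e1 : g⁻¹ * (p⁻¹ * e * p) * g = (p * g)⁻¹ * e * (p * g) := by group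
    rwa [e1]
  have h2 := h.cent_c hg hs htL htg hns' hq hl
  refine hns' ?_
  have hcV : p⁻¹ * b * p * (p⁻¹ * e * p) * (p⁻¹ * b * p)⁻¹ ∈ V :=
    norm_conj_mem (h.PV (h.SP hq.1)) (h.conjLV hg hl)
  have e1 : (p⁻¹ * b * p * (p⁻¹ * e * p) * (p⁻¹ * b * p)⁻¹)⁻¹ * (p⁻¹ * e * p) = t := by
    rw [← h.toHyp.V_comm (h.conjLV hg hl) (inv_mem hcV), ht, NOne.NearFF.c]
    group
  rwa [e1] at h2

variable (hbad : ¬ MulAut.conj (p * g) • L ≤ EE V F)
include hbad

/-- `B^((p g)⁻¹)` contains a minimal offender on `L` -/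
theorem exists_off : ∃ A₀ ≤ MulAut.conj (p * g)⁻¹ • B, MinOffM L S A₀ := by
  obtain ⟨w, hw, hwE⟩ := SetLike.not_le_iff_exists.1 hbad
  have hwV := h.line_le_V hp hg hBS hw
  set A : Subgroup G := MulAut.conj (p * g)⁻¹ • B with hA
  set Lh : Subgroup G := MulAut.conj (p * g) • L with hLh
  have hAS : A ≤ S := by
    have h1 := (conj_le_iff (g := (p * g)⁻¹)).2 hBS
    rwa [conj_conj, inv_mul_cancel, map_one, one_smul] at h1
  have ofA : ∀ a ∈ A, p * g * a * (p * g)⁻¹ ∈ B := fun a ha => by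
    have := mem_conj.1 ha
    rwa [inv_inv] at this
  -- `B` on `L^(g p)`
  have hcB : B ⊓ centralizer (Lh : Set G) ≤ NN V F := by
    rintro b ⟨hb, hbc⟩
    refine h.toBH.mem_NN_of_c hwV hwE hb ?_
    rw [c_eq_one' (mem_centralizer_iff.1 hbc w hw)]
    exact one_mem _
  have hLE : Lh ⊓ EE V F ≤ centralizer (B : Set G) := by
    rintro e ⟨he, heE⟩
    rw [mem_centralizer_iff]
    intro b hb
    exact (comm_of_c (h.one hp hg hBS he heE hb)).symm
  have hidx : (centralizer (B : Set G)).relIndex Lh ≤ (centralizer (Lh : Set G)).relIndex B := by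
    calc (centralizer (B : Set G)).relIndex Lh ≤ (EE V F).relIndex Lh := by
          rw [← inf_relIndex_right (EE V F) Lh, inf_comm]
          exact relIndex_le_of_le_left hLE (Pas.rne _ _)
      _ ≤ (EE V F).relIndex V := relIndex_le_of_le_right (h.line_le_V hp hg hBS) (Pas.rne _ _)
      _ ≤ F.relIndex (V ⊓ B) := h.toBH.relIndex_V_le h.not_I_le_F
      _ = (NN V F).relIndex B := h.toBH.relIndex_B.symm
      _ ≤ (centralizer (Lh : Set G)).relIndex B := by
          rw [← inf_relIndex_right (centralizer (Lh : Set G)) B, inf_comm]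
          exact relIndex_le_of_le_left hcB (Pas.rne _ _)
  -- back to `L`
  have eL : MulAut.conj (p * g)⁻¹ • Lh = L := by rw [hLh, conj_conj, inv_mul_cancel, map_one, one_smul]
  have hcc : ∀ X : Subgroup G, MulAut.conj (p * g)⁻¹ • centralizer (X : Set G) =
      centralizer ((MulAut.conj (p * g)⁻¹ • X : Subgroup G) : Set G) := by
    intro X
    ext x
    rw [mem_conj, mem_cent_conj]
  have hidx' : (centralizer (A : Set G)).relIndex L ≤ (centralizer (L : Set G)).relIndex A := by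
    have e1 := relIndex_pointwise_smul (MulAut.conj (p * g)⁻¹) (centralizer (B : Set G)) Lh
    have e2 := relIndex_pointwise_smul (MulAut.conj (p * g)⁻¹) (centralizer (Lh : Set G)) B
    rw [hcc, eL] at e1 e2
    rw [← hA] at e1 e2
    rw [e1, e2]
    exact hidx
  have hoff : OffM L A := by
    have hBsq : ∀ b ∈ B, b ^ 2 ∈ centralizer (Lh : Set G) := by
      intro b hb
      have h1 := h.toHyp.sq_W (h.le_W hb)
      rw [mem_centralizer_iff]
      intro l hl
      rw [pow_two]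
      exact (Hyp.F_comm h1 (h.toHyp.V_le_X (h.line_le_V hp hg hBS hl))).symm
    refine { sq := ?_, comm := ?_, ne := ?_, le := ?_ }
    · intro a ha
      have h1 := hBsq _ (ofA a ha)
      rw [hLh, mem_cent_conj] at h1
      have e : (p * g)⁻¹ * (p * g * a * (p * g)⁻¹) ^ 2 * (p * g) = a ^ 2 := by rw [pow_two, pow_two]; group
      rwa [e] at h1
    · intro a ha b hb
      have h1 := h.toBH.B_comm (ofA a ha) (ofA b hb)
      have e : a * b * a⁻¹ * b⁻¹ = (p * g)⁻¹ * (p * g * a * (p * g)⁻¹ * (p * g * b * (p * g)⁻¹)) *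
          (p * g * b * (p * g)⁻¹ * (p * g * a * (p * g)⁻¹))⁻¹ * (p * g) := by group
      rw [e, h1]
      have e2 : (p * g)⁻¹ * (p * g * b * (p * g)⁻¹ * (p * g * a * (p * g)⁻¹)) *
          (p * g * b * (p * g)⁻¹ * (p * g * a * (p * g)⁻¹))⁻¹ * (p * g) = 1 := by group
      rw [e2]
      exact one_mem _
    · intro h1
      obtain ⟨b, hb, hbN⟩ := h.toBH.exists_not_mem_NN h.not_I_le_F
      have h2 := h1 (mem_conj_smul (g := (p * g)⁻¹) hb)
      rw [inv_inv] at h2
      have h3 : b ∈ centralizer (Lh : Set G) := by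
        rw [hLh, mem_cent_conj]
        exact h2
      exact hbN (hcB (mem_inf.2 ⟨hb, h3⟩))
    · have e1 := card_inf_mul L (centralizer (A : Set G))
      have e2 := card_inf_mul A (centralizer (L : Set G))
      rw [← e1, ← e2]
      calc Nat.card ↥(L ⊓ centralizer (A : Set G)) * (centralizer (A : Set G)).relIndex L *
            Nat.card ↥(A ⊓ centralizer (L : Set G))
          = Nat.card ↥(A ⊓ centralizer (L : Set G)) * (centralizer (A : Set G)).relIndex L *
            Nat.card ↥(L ⊓ centralizer (A : Set G)) := by ring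
        _ ≤ Nat.card ↥(A ⊓ centralizer (L : Set G)) * (centralizer (L : Set G)).relIndex A *
            Nat.card ↥(L ⊓ centralizer (A : Set G)) := by gcongr
  exact exists_minOffM hAS hoff

/-- **(2), (3)**: `L^(g p)` is not bad -/
theorem false_of_bad (hspan : ∀ v ∈ V, ∃ x ∈ MulAut.conj (p * g) • L, ∃ e ∈ EE V F, v = x * e) : False := by
  obtain ⟨w, hw, hwE⟩ := SetLike.not_le_iff_exists.1 hbad
  have hwV := h.line_le_V hp hg hBS hw
  obtain ⟨A₀, hA₀, hm₀⟩ := h.exists_off hp hg hBS hbad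
  obtain ⟨s, hs, hcen⟩ := h.rt.conj A₀ (WW V F) hm₀ h.W_min
  have hsL : s ∈ normalizer (L : Set G) := h.PL (h.SP hs)
  set A : Subgroup G := MulAut.conj s • A₀ with hA
  have hmA : MinOffM L S A := MinOffM.conj' hm₀ hs hsL
  have hcen' : ⁅L, WW V F⁆ = ⁅L, A⁆ := by
    rw [hcen, hA]
    have e : MulAut.conj s • ⁅L, A₀⁆ = ⁅MulAut.conj s • L, MulAut.conj s • A₀⁆ := by
      change (⁅L, A₀⁆).map (MulAut.conj s).toMonoidHom = _
      rw [map_commutator]
      rfl
    rw [e, conj_eq_of_norm' hsL]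
  -- (2) `[V, A] ≤ B`
  have hVA : ∀ v ∈ V, ∀ a ∈ A, cm v a ∈ V ⊓ B := by
    intro v hv a ha
    have ha0 : s⁻¹ * a * s ∈ A₀ := mem_conj.1 ha
    have hb : p * g * (s⁻¹ * a * s) * (p * g)⁻¹ ∈ B := by
      have := mem_conj.1 (hA₀ ha0)
      rwa [inv_inv] at this
    set b : G := p * g * (s⁻¹ * a * s) * (p * g)⁻¹ with hbdef
    have hv' : p * g * (s⁻¹ * v * s) * (p * g)⁻¹ ∈ V := by
      have h1 : s⁻¹ * v * s⁻¹⁻¹ ∈ V := norm_conj_mem (h.PV (inv_mem (h.SP hs))) hv
      rw [inv_inv] at h1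
      exact norm_conj_mem (mul_mem (h.PV hp.mem) (h.PV' hg)) h1
    obtain ⟨x, hx, e, he, hxe⟩ := hspan _ hv'
    have hxV := h.line_le_V hp hg hBS hx
    have hbW := h.le_W hb
    have h1 : cm x b ∈ MulAut.conj (p * g) • L := c_mem_left hx (h.norm_line hp hg hBS (hBS hb))
    have h2 : cm e b ∈ L := by
      obtain ⟨w', hw', hwE'⟩ := h.toHyp.exists_not_mem
      obtain ⟨r, hr, hre⟩ := h.toHyp.surj hw' hwE' he
      have h3 : cm e b = cm (cm w' b) r := by
        rw [h.toHyp.beta_comm hw' hbW hr]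
        refine (h.toHyp.c_congr_left (h.toHyp.c_memV hw' hr) he.1 hbW ?_).symm
        exact h.toHyp.inv_mul_mem (h.toHyp.c_memV hw' hr) he.1 hre
      rw [h3]
      exact h.LW_le (h.c_mem_LW (h.toBH.c_memI hw' hb) hr)
    have e1 : cm v a = s * ((p * g)⁻¹ * cm (x * e) b * (p * g)) * s⁻¹ := by
      rw [← hxe, hbdef, NOne.NearFF.c, NOne.NearFF.c]; group
    have e2 : cm (x * e) b = cm x b * cm e b := h.toHyp.c_mul_left hxV he.1 hbW
    have h3 : (p * g)⁻¹ * cm x b * (p * g) ∈ L := mem_conj.1 h1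
    have h4 : (p * g)⁻¹ * cm e b * (p * g) ∈ MulAut.conj g⁻¹ • L := by
      rw [mem_conj]
      have h5 := norm_conj_mem (h.PL (inv_mem hp.mem)) h2
      have e3 : g⁻¹⁻¹ * ((p * g)⁻¹ * cm e b * (p * g)) * g⁻¹ = p⁻¹ * cm e b * p⁻¹⁻¹ := by group
      rwa [e3]
    have e4 : s * ((p * g)⁻¹ * cm (x * e) b * (p * g)) * s⁻¹ =
        s * ((p * g)⁻¹ * cm x b * (p * g)) * s⁻¹ * (s * ((p * g)⁻¹ * cm e b * (p * g)) * s⁻¹) := by
      rw [e2]; group
    rw [e1, e4]
    refine mul_mem (h.L_le_I (norm_conj_mem hsL h3)) ?_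
    have h5 : s * ((p * g)⁻¹ * cm e b * (p * g)) * s⁻¹ ∈ MulAut.conj (s * g⁻¹) • L := by
      rw [← conj_conj]
      exact mem_conj_smul h4
    exact ⟨h.conjLV (mul_mem (h.SP' hs) (inv_mem hg)) h5, h.LB _ (mul_mem (h.SP' hs) (inv_mem hg)) h5⟩
  -- (3)
  obtain ⟨x, hx, hxL⟩ := SetLike.not_le_iff_exists.1 h.mov
  obtain ⟨b, hb, hbN⟩ := h.toBH.exists_not_mem_NN h.not_I_le_F
  obtain ⟨a, ha, hxa⟩ := h.rt.same (WW V F) A h.W_min hmA hcen' x hx
  have hbW := h.le_W hb
  set q : G := a⁻¹ * x with hq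
  have hqQ : q ∈ S ⊓ centralizer (L : Set G) := by
    refine mem_inf.2 ⟨mul_mem (inv_mem (hmA.le ha)) (h.WS hx), ?_⟩
    rw [mem_centralizer_iff]
    intro l hl
    have h1 := hxa l hl
    calc l * q = a⁻¹ * (a * l * a⁻¹) * x := by rw [hq]; group
      _ = a⁻¹ * (x * l * x⁻¹) * x := by rw [h1]
      _ = q * l := by rw [hq]; group
  have hqn := h.norm_line hp hg hBS (h.Q_le hp hg hBS hqQ)
  have hu : cm w q ∈ MulAut.conj (p * g) • L := c_mem_left hw hqn
  -- `[w, q] = [w, x] r`, `r ∈ V ∩ B`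
  set w₁ : G := x * w * x⁻¹ with hw₁
  have hw₁V : w₁ ∈ V := norm_conj_mem (h.toHyp.W_norm_V hx) hwV
  have hr : cm w₁ a⁻¹ ∈ V ⊓ B := hVA w₁ hw₁V _ (inv_mem ha)
  have e1 : cm w q = cm w x * cm w₁ a⁻¹ := by
    rw [NOne.NearFF.c, NOne.NearFF.c, NOne.NearFF.c, hq, hw₁]; group
  have e2 : cm (cm w q) b = cm (cm w b) x := by
    rw [e1, h.toHyp.c_mul_left (h.toHyp.c_memV hwV hx) hr.1 hbW, c_eq_one' (h.toBH.B_comm hr.2 hb), mul_one,
      h.toHyp.beta_comm hwV hx hbW]
  -- `k = [w, b, x] ∈ F - 1`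
  have hrI := h.toBH.c_memI hwV hb
  have hrF : cm w b ∉ F := fun h1 => hbN (h.toBH.mem_NN_of_c hwV hwE hb h1)
  have hkF : cm (cm w q) b ∈ F := by
    rw [e2]
    exact h.toHyp.comm_EW (h.toBH.I_le_E hrI) hx
  have hk1 : cm (cm w q) b ≠ 1 := by
    rw [e2]
    intro h1
    obtain ⟨l, hl, hlr⟩ := h.I_eq _ hrI
    have h2 : cm (cm w b) x = cm l x :=
      (h.toHyp.c_congr_left (h.LV hl) hrI.1 hx hlr).symm
    rw [h2] at h1
    have hlF : l ∉ F := fun h3 => hrF (by
      have e : cm w b = l * (l⁻¹ * cm w b) := by group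
      rw [e]
      exact mul_mem h3 hlr)
    have hlW : l ∉ centralizer (WW V F : Set G) := fun h3 => hlF (by
      rw [← h.toHyp.cent_EW]
      exact mem_inf.2 ⟨h.toBH.I_le_E (h.L_le_I hl), h3⟩)
    exact hxL (h.rt.inj (WW V F) h.W_min l hl hlW x hx (comm_of_c h1).symm)
  by_cases huE : cm w q ∈ EE V F
  · exact hk1 (h.one hp hg hBS hu huE hb)
  · exact hbN (h.toBH.mem_NN_of_c (h.line_le_V hp hg hBS hu) huE hb hkF)

end Sit

/-- **THEOREM N** (#21337): a passive type `P'` normalises the line `L` of the active type. -/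
theorem Sit.main {S V F B P P' L : Subgroup G} (h : Sit S V F B P P' L) {p : G} (hp : Gn S V F P L p)
    (hBS : ∀ g ∈ P', B ≤ MulAut.conj (p * g) • S)
    (hgood : ∀ g ∈ P', MulAut.conj (p * g) • L ≤ EE V F → MulAut.conj (p * g) • L ≤ B)
    (hspan : ∀ g ∈ P', ¬ MulAut.conj (p * g) • L ≤ EE V F →
      ∀ v ∈ V, ∃ x ∈ MulAut.conj (p * g) • L, ∃ e ∈ EE V F, v = x * e) : P' ≤ normalizer (L : Set G) := by
  by_cases hall : ∀ g ∈ P', MulAut.conj (p * g) • L ≤ EE V F
  · exact h.norm_of_good hp fun g hg => hgood g hg (hall g hg)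
  · push Not at hall
    obtain ⟨g, hg, hb⟩ := hall
    exact (h.false_of_bad hp hg (hBS g hg) hb (hspan g hg hb)).elim

end Cfsg.Agent.Omega.NO3S.NTwo
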