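import Cfsg.Agent.Omega.NO3S.Act.NTwo.Core

/-!
# THEOREM N (#21337), CASE 2: all lines `L^(g p)`, `g ∈ P'`, are in `I`

`Gn` : a generic `p ∈ P`; `Sit.norm_of_good` : then `P'` normalises `L`.
-/

set_option autoImplicit false
set_option linter.unusedSectionVars false

namespace Cfsg.Agent.Omega.NO3S.NTwo

open Subgroup Cfsg Cfsg.Agent.Omega.NoFF.Basic
open Cfsg.Agent.Omega.NOne.Flat (Hyp EE WW NN BadX)
open Cfsg.Agent.Omega.NOThreeL.Low.Key (BH conj_eq_of_norm' norm_conj_mem c_eq_one' comm_of_c c_mem_left)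
open Cfsg.Agent.Omega.NOThreeL.NF (MinOffM RP)
open Cfsg.Agent.Omega.NO3S.Pas (mem_sup_of_norm)
open Cfsg.Agent.Omega.FFThm (ElemM OffM)
open Cfsg.Agent.ZN (o2)
open scoped Pointwise commutatorElement

universe u

local notation "cm" => Cfsg.Agent.Omega.NOne.NearFF.c

variable {G : Type u} [Group G]

/-- a generic `p ∈ P` for `W = WW V F` (633's `Gnr`) -/
structure Gn (S V F P L : Subgroup G) (p : G) : Prop where
  mem : p ∈ P
  gen : P ≤ S ⊔ MulAut.conj p⁻¹ • WW V F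
  dis : ∀ x ∈ L, (∀ s ∈ S, MulAut.conj s • WW V F ≤ centralizer ({x} : Set G)) →
    p * x * p⁻¹ ∈ ⁅L, WW V F⁆ → x = 1

theorem norm_of_conj_mem' {A : Subgroup G} {x : G} (h1 : ∀ a ∈ A, x * a * x⁻¹ ∈ A)
    (h2 : ∀ a ∈ A, x⁻¹ * a * x ∈ A) : x ∈ normalizer (A : Set G) := by
  rw [mem_normalizer_iff]
  intro a
  refine ⟨h1 a, fun ha => ?_⟩
  have h3 := h2 _ ha
  have e : x⁻¹ * (x * a * x⁻¹) * x = a := by group
  rwa [e] at h3

namespace Sit

variable {S V F B P P' L : Subgroup G} (h : Sit S V F B P P' L)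
include h

/-- `[I, W] ≤ [L, W]` -/
theorem c_mem_LW {r s : G} (hr : r ∈ V ⊓ B) (hs : s ∈ WW V F) : cm r s ∈ ⁅L, WW V F⁆ := by
  obtain ⟨l, hl, hlr⟩ := h.I_eq r hr
  have e : r = l * (l⁻¹ * r) := by group
  have h1 : cm r s = cm l s := by
    conv_lhs => rw [e]
    rw [h.toHyp.c_mul_left (h.LV hl) (h.toHyp.F_le_V hlr) hs, Hyp.c_F hlr hs, mul_one]
  rw [h1]
  exact commutator_mem_commutator hl hs

theorem LW_le : ⁅L, WW V F⁆ ≤ L := by
  rw [commutator_le]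
  intro l hl s hs
  have h1 := c_mem_left hl (h.PL (h.SP (h.WS hs)))
  exact h1

/-- `U' = ⟨L^(P')⟩` -/
def U (_h : Sit S V F B P P' L) : Subgroup G := ⨆ x : P', MulAut.conj (x : G) • L

theorem conj_le_U {x : G} (hx : x ∈ P') : MulAut.conj x • L ≤ h.U :=
  le_iSup (fun x : P' => MulAut.conj (x : G) • L) ⟨x, hx⟩

theorem U_le {A : Subgroup G} (h1 : ∀ x ∈ P', MulAut.conj x • L ≤ A) : h.U ≤ A := iSup_le fun x => h1 x x.2

theorem L_le_U : L ≤ h.U := by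
  have := h.conj_le_U (one_mem P')
  rwa [map_one, one_smul] at this

theorem U_le_V : h.U ≤ V := h.U_le fun _ hx => h.conjLV hx

theorem U_le_B : h.U ≤ B := h.U_le fun _ hx => h.LB _ hx

theorem conj_mem_U {y u : G} (hy : y ∈ P') (hu : u ∈ h.U) : y * u * y⁻¹ ∈ h.U := by
  have h1 : h.U ≤ MulAut.conj y⁻¹ • h.U := h.U_le fun x hx => by
    have h2 := (conj_le_iff (g := y⁻¹)).2 (h.conj_le_U (mul_mem hy hx))
    rwa [conj_conj, inv_mul_cancel_left] at h2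
  have h2 := mem_conj.1 (h1 hu)
  rwa [inv_inv] at h2

theorem P'_norm_U : P' ≤ normalizer (h.U : Set G) := fun y hy =>
  norm_of_conj_mem' (fun _ ha => h.conj_mem_U hy ha) fun a ha => by
    have := h.conj_mem_U (inv_mem hy) ha
    rwa [inv_inv] at this

variable {p : G} (hp : Gn S V F P L p)
  (hgood : ∀ g ∈ P', MulAut.conj (p * g) • L ≤ B)
include hp hgood

theorem conjp_U {u : G} (hu : u ∈ h.U) : p * u * p⁻¹ ∈ V ⊓ B := by
  refine ⟨norm_conj_mem (h.PV hp.mem) (h.U_le_V hu), ?_⟩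
  have h1 : h.U ≤ MulAut.conj p⁻¹ • B := h.U_le fun x hx => by
    have h2 := (conj_le_iff (g := p⁻¹)).2 (hgood x hx)
    rwa [conj_conj, inv_mul_cancel_left] at h2
  have h2 := mem_conj.1 (h1 hu)
  rwa [inv_inv] at h2

/-- `[U', W^(p⁻¹)] ≤ L` -/
theorem comm_mem_L {u s : G} (hu : u ∈ h.U) (hs : s ∈ MulAut.conj p⁻¹ • WW V F) :
    s * u * s⁻¹ * u⁻¹ ∈ L := by
  have hs' : p * s * p⁻¹ ∈ WW V F := by
    have := mem_conj.1 hs
    rwa [inv_inv] at this
  have h1 := inv_mem (h.LW_le (h.c_mem_LW (h.conjp_U hp hgood hu) hs'))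
  have h2 := norm_conj_mem (h.PL (inv_mem hp.mem)) h1
  have e : p⁻¹ * (cm (p * u * p⁻¹) (p * s * p⁻¹))⁻¹ * p⁻¹⁻¹ = s * u * s⁻¹ * u⁻¹ := by
    rw [NOne.NearFF.c]; group
  rwa [e] at h2

theorem P_norm_U : P ≤ normalizer (h.U : Set G) := by
  refine hp.gen.trans (sup_le (h.SP'.trans h.P'_norm_U) ?_)
  intro s hs
  have key : ∀ s ∈ MulAut.conj p⁻¹ • WW V F, ∀ a ∈ h.U, s * a * s⁻¹ ∈ h.U := by
    intro s hs a ha
    have h1 := h.comm_mem_L hp hgood ha hs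
    have e : s * a * s⁻¹ = s * a * s⁻¹ * a⁻¹ * a := by group
    rw [e]
    exact mul_mem (h.L_le_U h1) ha
  refine norm_of_conj_mem' (key s hs) fun a ha => ?_
  have := key _ (inv_mem hs) a ha
  rwa [inv_inv] at this

/-- the elements of `P` which centralise `U' / L` -/
def KK : Subgroup G where
  carrier := {n | n ∈ P ∧ ∀ u ∈ h.U, n * u * n⁻¹ * u⁻¹ ∈ L}
  mul_mem' := by
    rintro a b ⟨ha, ha'⟩ ⟨hb, hb'⟩
    refine ⟨mul_mem ha hb, fun u hu => ?_⟩
    have h1 := norm_conj_mem (h.PL ha) (hb' u hu)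
    have e : a * b * u * (a * b)⁻¹ * u⁻¹ = a * (b * u * b⁻¹ * u⁻¹) * a⁻¹ * (a * u * a⁻¹ * u⁻¹) := by group
    rw [e]
    exact mul_mem h1 (ha' u hu)
  one_mem' := ⟨one_mem _, fun u _ => by
    rw [one_mul, inv_one, mul_one, mul_inv_cancel]
    exact one_mem _⟩
  inv_mem' := by
    rintro a ⟨ha, ha'⟩
    refine ⟨inv_mem ha, fun u hu => ?_⟩
    have hu' : a⁻¹ * u * a⁻¹⁻¹ ∈ h.U := norm_conj_mem (h.P_norm_U hp hgood (inv_mem ha)) hu
    have h1 := inv_mem (ha' _ hu')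
    have e : (a * (a⁻¹ * u * a⁻¹⁻¹) * a⁻¹ * (a⁻¹ * u * a⁻¹⁻¹)⁻¹)⁻¹ = a⁻¹ * u * a⁻¹⁻¹ * u⁻¹ := by group
    rwa [e] at h1

local notation "K" => KK h hp hgood

theorem KK_le : K ≤ P := fun _ hn => hn.1

theorem P_norm_KK : P ≤ normalizer (K : Set G) := by
  have key : ∀ t ∈ P, ∀ n ∈ K, t * n * t⁻¹ ∈ K := by
    rintro t ht n ⟨hn, hn'⟩
    refine ⟨mul_mem (mul_mem ht hn) (inv_mem ht), fun u hu => ?_⟩
    have hu' : t⁻¹ * u * t⁻¹⁻¹ ∈ h.U := norm_conj_mem (h.P_norm_U hp hgood (inv_mem ht)) hu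
    have h1 := norm_conj_mem (h.PL ht) (hn' _ hu')
    have e : t * (n * (t⁻¹ * u * t⁻¹⁻¹) * n⁻¹ * (t⁻¹ * u * t⁻¹⁻¹)⁻¹) * t⁻¹ =
        t * n * t⁻¹ * u * (t * n * t⁻¹)⁻¹ * u⁻¹ := by group
    rwa [e] at h1
  intro t ht
  exact norm_of_conj_mem' (key t ht) fun a ha => by
    have := key _ (inv_mem ht) a ha
    rwa [inv_inv] at this

theorem conjW_le_KK : MulAut.conj p⁻¹ • WW V F ≤ K := by
  intro s hs
  refine ⟨?_, fun u hu => h.comm_mem_L hp hgood hu hs⟩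
  have h1 := h.SP (h.WS (mem_conj.1 hs))
  have e : s = p⁻¹ * (p⁻¹⁻¹ * s * p⁻¹) * p := by group
  rw [e]
  exact mul_mem (mul_mem (inv_mem hp.mem) h1) hp.mem

theorem conj_mem_KK {t n : G} (ht : t ∈ P) (hn : n ∈ K) : t * n * t⁻¹ ∈ K :=
  norm_conj_mem (h.P_norm_KK hp hgood ht) hn

theorem W_le_KK : WW V F ≤ K := by
  intro s hs
  have h1 := h.conjW_le_KK hp hgood (mem_conj_smul (g := p⁻¹) hs)
  have h2 := h.conj_mem_KK hp hgood hp.mem h1
  have e : p * (p⁻¹ * s * p⁻¹⁻¹) * p⁻¹ = s := by group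
  rwa [e] at h2

/-- `P = K S` -/
theorem decomp {x : G} (hx : x ∈ P) : ∃ n ∈ K, ∃ s ∈ S, n * s = x := by
  have h1 : P ≤ K ⊔ S := hp.gen.trans (sup_le le_sup_right ((h.conjW_le_KK hp hgood).trans le_sup_left))
  exact mem_sup_of_norm (h.SP.trans (h.P_norm_KK hp hgood)) (h1 hx)

/-- `[u^n, q^n] = [u, q^n]` for `n ∈ K` -/
theorem conj_c {n u q : G} (hn : n ∈ K) (hu : u ∈ h.U) (hq : q ∈ S ⊓ centralizer (L : Set G)) :
    n * cm u q * n⁻¹ = cm u (n * q * n⁻¹) := by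
  have hq' : n * q * n⁻¹ ∈ S ⊓ centralizer (L : Set G) := norm_conj_mem (h.PQ hn.1) hq
  have hl := hn.2 u hu
  set l : G := n * u * n⁻¹ * u⁻¹ with hl'
  have e1 : n * cm u q * n⁻¹ = cm (l * u) (n * q * n⁻¹) := by rw [NOne.NearFF.c, NOne.NearFF.c, hl']; group
  have e2 : cm (l * u) (n * q * n⁻¹) = l * cm u (n * q * n⁻¹) * (n * q * n⁻¹ * l⁻¹ * (n * q * n⁻¹)⁻¹) := by
    rw [NOne.NearFF.c, NOne.NearFF.c]; group
  have e3 : n * q * n⁻¹ * l⁻¹ * (n * q * n⁻¹)⁻¹ = l⁻¹ := by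
    rw [← mem_centralizer_iff.1 hq'.2 _ (inv_mem hl), mul_inv_cancel_right]
  have hcV : cm u (n * q * n⁻¹) ∈ V := c_mem_left (h.U_le_V hu) (h.PV (h.SP hq'.1))
  rw [e1, e2, e3, h.toHyp.V_comm (h.LV hl) hcV, mul_inv_cancel_right]

theorem c_eq' {u q : G} (hu : u ∈ V) (hq : q ∈ S) : cm u q = (q * u * q⁻¹)⁻¹ * u := by
  have h1 : q * u * q⁻¹ ∈ V := norm_conj_mem (h.PV (h.SP hq)) hu
  have e : cm u q = u * (q * u * q⁻¹)⁻¹ := by rw [NOne.NearFF.c]; group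
  rw [e, h.toHyp.V_comm hu (inv_mem h1)]

/-- **CASE 2**: `D_u ∩ L = 1` -/
theorem D_inf {g u : G} (hg : g ∈ P') (hu : u ∈ MulAut.conj g • L) {t : G}
    (ht : t ∈ closure {y | ∃ q ∈ S ⊓ centralizer (L : Set G), y = cm u q}) (htL : t ∈ L) : t = 1 := by
  set D : Subgroup G := closure {y | ∃ q ∈ S ⊓ centralizer (L : Set G), y = cm u q} with hD
  have huU : u ∈ h.U := h.conj_le_U hg hu
  have hDg : D ≤ MulAut.conj g • L := by
    rw [hD, closure_le]
    rintro y ⟨q, hq, rfl⟩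
    exact c_mem_left hu (h.Q_norm hg hq)
  have hKD : ∀ n ∈ K, ∀ d ∈ D, n * d * n⁻¹ ∈ D := by
    intro n hn d hd
    induction hd using closure_induction with
    | mem y hy =>
      obtain ⟨q, hq, rfl⟩ := hy
      rw [h.conj_c hp hgood hn huU hq]
      exact subset_closure ⟨_, norm_conj_mem (h.PQ hn.1) hq, rfl⟩
    | one => rw [mul_one, mul_inv_cancel]; exact one_mem _
    | mul x y _ _ hx hy =>
      have e : n * (x * y) * n⁻¹ = n * x * n⁻¹ * (n * y * n⁻¹) := by group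
      rw [e]
      exact mul_mem hx hy
    | inv x _ hx =>
      have e : n * x⁻¹ * n⁻¹ = (n * x * n⁻¹)⁻¹ := by group
      rw [e]
      exact inv_mem hx
  -- a moved element gives a contradiction
  have key : ∀ t ∈ D, t ∈ L → ∀ s ∈ S, t ∈ centralizer ((MulAut.conj s • WW V F : Subgroup G) : Set G) := by
    intro t ht htL s hs
    by_contra hne
    refine hne ?_
    have h1 : D ≤ centralizer ((MulAut.conj s • WW V F : Subgroup G) : Set G) := by
      rw [hD, closure_le]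
      rintro y ⟨q, hq, rfl⟩
      rw [SetLike.mem_coe, h.c_eq' hp hgood (h.conjLV hg hu) hq.1]
      exact h.cent_c hg hs htL (hDg ht) hne hq hu
    exact h1 ht
  by_contra hne
  -- `Y = C_L(⟨W^P⟩)`
  set Y : Subgroup G := L ⊓ centralizer ((⨆ x : P, MulAut.conj (x : G) • WW V F : Subgroup G) : Set G) with hY
  have hYmem : ∀ y, y ∈ Y ↔ y ∈ L ∧ ∀ x ∈ P, ∀ w ∈ WW V F, x * w * x⁻¹ * y = y * (x * w * x⁻¹) := by
    intro y
    rw [hY, mem_inf]
    refine and_congr_right fun _ => ⟨fun h1 x hx w hw => ?_, fun h1 => ?_⟩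
    · refine mem_centralizer_iff.1 h1 _ ?_
      exact (le_iSup (fun x : P => MulAut.conj (x : G) • WW V F) ⟨x, hx⟩) (mem_conj_smul hw)
    · have h2 : (⨆ x : P, MulAut.conj (x : G) • WW V F : Subgroup G) ≤ centralizer ({y} : Set G) := by
        refine iSup_le fun x w hw => ?_
        rw [mem_centralizer_iff]
        rintro _ rfl
        have h3 := h1 x x.2 _ (mem_conj.1 hw)
        have e : (x : G) * ((x : G)⁻¹ * w * x) * (x : G)⁻¹ = w := by group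
        rw [e] at h3
        exact h3.symm
      rw [mem_centralizer_iff]
      intro w hw
      exact (mem_centralizer_iff.1 (h2 hw) y rfl).symm
  have htY : t ∈ Y := by
    rw [hYmem]
    refine ⟨htL, fun x hx w hw => ?_⟩
    obtain ⟨n, hn, s, hs, rfl⟩ := h.decomp hp hgood hx
    have h1 : n⁻¹ * t * n⁻¹⁻¹ ∈ D := hKD _ (inv_mem hn) t ht
    have h2 : n⁻¹ * t * n⁻¹⁻¹ ∈ L := norm_conj_mem (h.PL (inv_mem hn.1)) htL
    have h3 := mem_centralizer_iff.1 (key _ h1 h2 s hs) _ (mem_conj_smul (g := s) hw)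
    calc n * s * w * (n * s)⁻¹ * t = n * (s * w * s⁻¹ * (n⁻¹ * t * n⁻¹⁻¹)) * n⁻¹ := by group
      _ = n * (n⁻¹ * t * n⁻¹⁻¹ * (s * w * s⁻¹)) * n⁻¹ := by rw [h3]
      _ = t * (n * s * w * (n * s)⁻¹) := by group
  have hYne : Y ≠ ⊥ := fun h1 => hne (by rwa [h1, mem_bot] at htY)
  have hPY : P ≤ normalizer (Y : Set G) := by
    have key2 : ∀ x ∈ P, ∀ y ∈ Y, x * y * x⁻¹ ∈ Y := by
      intro x hx y hy
      rw [hYmem] at hy ⊢
      refine ⟨norm_conj_mem (h.PL hx) hy.1, fun x' hx' w hw => ?_⟩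
      have h1 := hy.2 (x⁻¹ * x') (mul_mem (inv_mem hx) hx') w hw
      calc x' * w * x'⁻¹ * (x * y * x⁻¹) = x * (x⁻¹ * x' * w * (x⁻¹ * x')⁻¹ * y) * x⁻¹ := by group
        _ = x * (y * (x⁻¹ * x' * w * (x⁻¹ * x')⁻¹)) * x⁻¹ := by rw [h1]
        _ = x * y * x⁻¹ * (x' * w * x'⁻¹) := by group
    intro x hx
    exact norm_of_conj_mem' (key2 x hx) fun a ha => by
      have := key2 _ (inv_mem hx) a ha
      rwa [inv_inv] at this
  have hLY := h.irr Y (inf_le_left.trans h.LV) hPY hYne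
  apply h.mov
  intro w hw
  rw [mem_centralizer_iff]
  intro l hl
  have h1 := ((hYmem l).1 (hLY hl)).2 1 (one_mem _) w hw
  rw [one_mul, inv_one, mul_one] at h1
  exact h1.symm

/-- **THEOREM N, CASE 2**: if all `L^(g p)` are good, then `P'` normalises `L`. -/
theorem norm_of_good : P' ≤ normalizer (L : Set G) := by
  set Q : Subgroup G := S ⊓ centralizer (L : Set G) with hQ
  set Y : Subgroup G := closure {y | ∃ g ∈ P', ∃ u ∈ MulAut.conj g • L, ∃ q ∈ Q, y = cm u q} with hY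
  have hYV : Y ≤ V := by
    rw [hY, closure_le]
    rintro y ⟨g, hg, u, hu, q, hq, rfl⟩
    exact c_mem_left (h.conjLV hg hu) (h.PV (h.SP hq.1))
  have hgen : ∀ g ∈ P', ∀ u ∈ MulAut.conj g • L, ∀ q ∈ Q, cm u q ∈ Y := fun g hg u hu q hq =>
    subset_closure ⟨g, hg, u, hu, q, hq, rfl⟩
  -- `K` centralises `Y`
  have hKY : ∀ n ∈ K, ∀ y ∈ Y, n * y * n⁻¹ = y := by
    intro n hn y hy
    induction hy using closure_induction with
    | mem y hy =>
      obtain ⟨g, hg, u, hu, q, hq, rfl⟩ := hy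
      have huU := h.conj_le_U hg hu
      have h1 : n * cm u q * n⁻¹ * (cm u q)⁻¹ = 1 := by
        refine h.D_inf hp hgood hg hu ?_ ?_
        · refine mul_mem ?_ (inv_mem (subset_closure ⟨q, hq, rfl⟩))
          rw [h.conj_c hp hgood hn huU hq]
          exact subset_closure ⟨_, norm_conj_mem (h.PQ hn.1) hq, rfl⟩
        · exact hn.2 _ (h.conj_le_U hg (c_mem_left hu (h.Q_norm hg hq)))
      exact mul_inv_eq_one.1 h1
    | one => rw [mul_one, mul_inv_cancel]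
    | mul x y _ _ hx hy =>
      have e : n * (x * y) * n⁻¹ = n * x * n⁻¹ * (n * y * n⁻¹) := by group
      rw [e, hx, hy]
    | inv x _ hx =>
      have e : n * x⁻¹ * n⁻¹ = (n * x * n⁻¹)⁻¹ := by group
      rw [e, hx]
  have hSY : ∀ s ∈ S, ∀ y ∈ Y, s * y * s⁻¹ ∈ Y := by
    intro s hs y hy
    induction hy using closure_induction with
    | mem y hy =>
      obtain ⟨g, hg, u, hu, q, hq, rfl⟩ := hy
      have e : s * cm u q * s⁻¹ = cm (s * u * s⁻¹) (s * q * s⁻¹) := by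
        rw [NOne.NearFF.c, NOne.NearFF.c]; group
      rw [e]
      refine hgen (s * g) (mul_mem (h.SP' hs) hg) _ ?_ _ (norm_conj_mem (h.PQ (h.SP hs)) hq)
      rw [← conj_conj]
      exact mem_conj_smul hu
    | one => rw [mul_one, mul_inv_cancel]; exact one_mem _
    | mul x y _ _ hx hy =>
      have e : s * (x * y) * s⁻¹ = s * x * s⁻¹ * (s * y * s⁻¹) := by group
      rw [e]
      exact mul_mem hx hy
    | inv x _ hx =>
      have e : s * x⁻¹ * s⁻¹ = (s * x * s⁻¹)⁻¹ := by group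
      rw [e]
      exact inv_mem hx
  have hPY : P ≤ normalizer (Y : Set G) := by
    have key2 : ∀ x ∈ P, ∀ y ∈ Y, x * y * x⁻¹ ∈ Y := by
      intro x hx y hy
      obtain ⟨n, hn, s, hs, rfl⟩ := h.decomp hp hgood hx
      have e : n * s * y * (n * s)⁻¹ = n * (s * y * s⁻¹) * n⁻¹ := by group
      rw [e, hKY n hn _ (hSY s hs y hy)]
      exact hSY s hs y hy
    intro x hx
    exact norm_of_conj_mem' (key2 x hx) fun a ha => by
      have := key2 _ (inv_mem hx) a ha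
      rwa [inv_inv] at this
  have hY1 : Y = ⊥ := by
    by_contra hne
    have h1 := h.irr Y hYV hPY hne
    apply h.mov
    intro w hw
    rw [mem_centralizer_iff]
    intro l hl
    have h2 := hKY w (h.W_le_KK hp hgood hw) l (h1 hl)
    calc l * w = w * l * w⁻¹ * w := by rw [h2]
      _ = w * l := by group
  -- `L^g ≤ C_V(Q) = L`
  have hle : ∀ g ∈ P', MulAut.conj g • L ≤ L := by
    intro g hg u hu
    refine h.cvq (mem_inf.2 ⟨h.conjLV hg hu, mem_centralizer_iff.2 fun q hq => ?_⟩)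
    have h1 := hgen g hg u hu q hq
    rw [hY1, mem_bot] at h1
    exact (comm_of_c h1).symm
  intro g hg
  refine norm_of_conj_mem' (fun a ha => hle g hg (mem_conj_smul ha)) fun a ha => ?_
  have h1 := hle g⁻¹ (inv_mem hg) (mem_conj_smul (g := g⁻¹) ha)
  rwa [inv_inv] at h1

end Sit

end Cfsg.Agent.Omega.NO3S.NTwo
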