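import Cfsg.Agent.Omega.NO3S.Act.PasEnd
import Cfsg.Agent.Omega.NOThreeL.NF.Defs

/-!
# GammaFF: passive types normalise the active line (THEOREM N, #21337 helper422), the abstract core

`(S, P)` active for `W = WW V F`, `L` its line, `Q = C_S(L)`, `P'` passive (`W ≤ O₂(P')`).

* `LRoot S L` : what is used of the FF type: a minimal offender `A ≤ S` on `L` acts as one full root group
  (transposition); it is determined by its centre `[L, A]`;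
* `Sit` : the situation at `S`;
* `Sit.cent_c` **(C)** : `t ∈ L ∩ L^g` moved by `W^s` ⟹ `W^s` centralises `[L^g, q]`, `q ∈ Q`.
-/

set_option autoImplicit false
set_option linter.unusedSectionVars false

namespace Cfsg.Agent.Omega.NO3S.NTwo

open Subgroup Cfsg Cfsg.Agent.Omega.NoFF.Basic
open Cfsg.Agent.Omega.NOne.Flat (Hyp EE WW NN BadX)
open Cfsg.Agent.Omega.NOThreeL.Low.Key (BH conj_eq_of_norm' norm_conj_mem c_eq_one' comm_of_c c_mem_left)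
open Cfsg.Agent.Omega.NOThreeL.NF (MinOffM RP)
open Cfsg.Agent.Omega.FFThm (ElemM OffM)
open Cfsg.Agent.ZN (o2)
open scoped Pointwise commutatorElement

universe u

local notation "cm" => Cfsg.Agent.Omega.NOne.NearFF.c

variable {G : Type u} [Group G]

/-- What is used of the FF type of the line `L` at `S`. -/
structure LRoot (S L : Subgroup G) : Prop where
  inj : ∀ A : Subgroup G, MinOffM L S A → ∀ v ∈ L, v ∉ centralizer (A : Set G) → ∀ a ∈ A, a * v = v * a →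
    a ∈ centralizer (L : Set G)
  surj : ∀ A : Subgroup G, MinOffM L S A → ∀ v ∈ L, v ∉ centralizer (A : Set G) → ∀ y ∈ ⁅L, A⁆,
    ∃ a ∈ A, a * v * a⁻¹ * v⁻¹ = y
  /-- (D') -/
  same : ∀ A B : Subgroup G, MinOffM L S A → MinOffM L S B → ⁅L, A⁆ = ⁅L, B⁆ → ∀ a ∈ A, ∃ b ∈ B,
    ∀ x ∈ L, a * x * a⁻¹ = b * x * b⁻¹
  conj : ∀ A B : Subgroup G, MinOffM L S A → MinOffM L S B → ∃ s ∈ S, ⁅L, B⁆ = MulAut.conj s • ⁅L, A⁆

/-- The situation at the chamber `S`: active type `P` with line `L`, passive type `P'`. -/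
structure Sit (S V F B P P' L : Subgroup G) : Prop extends BH V F B where
  SP : S ≤ P
  SP' : S ≤ P'
  PV : P ≤ normalizer (V : Set G)
  PV' : P' ≤ normalizer (V : Set G)
  PL : P ≤ normalizer (L : Set G)
  /-- `Q = C_S(L) = O₂(P)` -/
  PQ : P ≤ normalizer ((S ⊓ centralizer (L : Set G) : Subgroup G) : Set G)
  /-- `Q ≤ O₂(P')` -/
  QS : ∀ g ∈ P', S ⊓ centralizer (L : Set G) ≤ MulAut.conj g • S
  WS : WW V F ≤ S
  /-- `W ≤ O₂(P')` -/
  WS' : ∀ g ∈ P', MulAut.conj g • WW V F ≤ S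
  LV : L ≤ V
  /-- the lines `L^g`, `g ∈ P'`, are good -/
  LB : ∀ g ∈ P', MulAut.conj g • L ≤ B
  mov : ¬ WW V F ≤ centralizer (L : Set G)
  rt : LRoot S L
  dich : ∀ y ∈ P', ¬ MulAut.conj y • WW V F ≤ centralizer (L : Set G) → MinOffM L S (MulAut.conj y • WW V F)
  irr : ∀ X : Subgroup G, X ≤ V → P ≤ normalizer (X : Set G) → X ≠ ⊥ → L ≤ X
  cvq : V ⊓ centralizer ((S ⊓ centralizer (L : Set G) : Subgroup G) : Set G) ≤ L
  /-- `I = L F` -/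
  I_eq : ∀ r ∈ V ⊓ B, ∃ l ∈ L, l⁻¹ * r ∈ F

theorem mem_conj_smul {g x : G} {A : Subgroup G} (hx : x ∈ A) : g * x * g⁻¹ ∈ MulAut.conj g • A := by
  rw [mem_conj]
  have e : g⁻¹ * (g * x * g⁻¹) * g = x := by group
  rwa [e]

theorem mem_cent_conj {g x : G} {A : Subgroup G} :
    x ∈ centralizer ((MulAut.conj g • A : Subgroup G) : Set G) ↔ g⁻¹ * x * g ∈ centralizer (A : Set G) := by
  constructor
  · intro hx
    rw [mem_centralizer_iff]
    intro a ha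
    have h1 := mem_centralizer_iff.1 hx _ (mem_conj_smul (g := g) ha)
    calc a * (g⁻¹ * x * g) = g⁻¹ * (g * a * g⁻¹ * x) * g := by group
      _ = g⁻¹ * (x * (g * a * g⁻¹)) * g := by rw [h1]
      _ = g⁻¹ * x * g * a := by group
  · intro hx
    rw [mem_centralizer_iff]
    intro a ha
    have h1 := mem_centralizer_iff.1 hx _ (mem_conj.1 ha)
    calc a * x = g * (g⁻¹ * a * g * (g⁻¹ * x * g)) * g⁻¹ := by group
      _ = g * (g⁻¹ * x * g * (g⁻¹ * a * g)) * g⁻¹ := by rw [h1]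
      _ = x * a := by group

namespace Sit

variable {S V F B P P' L : Subgroup G} (h : Sit S V F B P P' L)
include h

theorem LB1 : L ≤ B := by
  have := h.LB 1 (one_mem _)
  rwa [map_one, one_smul] at this

theorem L_le_I : L ≤ V ⊓ B := le_inf h.LV h.LB1

theorem conjLV {g : G} (hg : g ∈ P') : MulAut.conj g • L ≤ V := by
  have h1 := (conj_le_iff (g := g)).2 h.LV
  rwa [conj_eq_of_norm' (h.PV' hg)] at h1

theorem B_cent_L : B ≤ centralizer (L : Set G) := comm_symm (h.LB1.trans h.abel)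

theorem B_le_Q : B ≤ S ⊓ centralizer (L : Set G) := le_inf (h.le_W.trans h.WS) h.B_cent_L

theorem W_min : MinOffM L S (WW V F) := by
  have := h.dich 1 (one_mem _)
  rw [map_one, one_smul] at this
  exact this h.mov

/-- elements of `Q` normalise `L^g`, `g ∈ P'` -/
theorem Q_norm {g : G} (hg : g ∈ P') {q : G} (hq : q ∈ S ⊓ centralizer (L : Set G)) :
    q ∈ normalizer ((MulAut.conj g • L : Subgroup G) : Set G) := by
  have h1 := mem_conj.1 (h.QS g hg hq)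
  have h2 := h.PL (h.SP h1)
  rw [mem_normalizer_iff]
  intro x
  rw [mem_conj, mem_conj, mem_normalizer_iff.1 h2]
  have e : g⁻¹ * q * g * (g⁻¹ * x * g) * (g⁻¹ * q * g)⁻¹ = g⁻¹ * (q * x * q⁻¹) * g := by group
  rw [e]

/-- **(C)** `t ∈ L ∩ L^g` is moved by `W^s` ⟹ `W^s` centralises `[L^g, q]`, `q ∈ Q = C_S(L)`. -/
theorem cent_c {g s t : G} (hg : g ∈ P') (hs : s ∈ S) (htL : t ∈ L) (htg : t ∈ MulAut.conj g • L)
    (ht : t ∉ centralizer ((MulAut.conj s • WW V F : Subgroup G) : Set G)) {q : G}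
    (hq : q ∈ S ⊓ centralizer (L : Set G)) {l : G} (hl : l ∈ MulAut.conj g • L) :
    (q * l * q⁻¹)⁻¹ * l ∈ centralizer ((MulAut.conj s • WW V F : Subgroup G) : Set G) := by
  have hqL : ∀ y ∈ L, q * y * q⁻¹ = y := fun y hy => by
    rw [← mem_centralizer_iff.1 hq.2 y hy, mul_inv_cancel_right]
  have hsP : ∀ w ∈ (MulAut.conj s • WW V F : Subgroup G), w ∈ S := fun w hw => by
    have h1 := h.WS (mem_conj.1 hw)
    have e : w = s * (s⁻¹ * w * s) * s⁻¹ := by group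
    rw [e]
    exact mul_mem (mul_mem hs h1) (inv_mem hs)
  -- the two conjugates of `W`
  have hy1 : g⁻¹ * s ∈ P' := mul_mem (inv_mem hg) (h.SP' hs)
  have hy2 : g⁻¹ * q * s ∈ P' := mul_mem (mul_mem (inv_mem hg) (h.SP' hq.1)) (h.SP' hs)
  set A : Subgroup G := MulAut.conj (g⁻¹ * s) • WW V F with hA
  set A' : Subgroup G := MulAut.conj (g⁻¹ * q * s) • WW V F with hA'
  have memA : ∀ w ∈ (MulAut.conj s • WW V F : Subgroup G), g⁻¹ * w * g ∈ A := fun w hw => by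
    rw [hA, mem_conj]
    have e : (g⁻¹ * s)⁻¹ * (g⁻¹ * w * g) * (g⁻¹ * s) = s⁻¹ * w * s := by group
    rw [e]
    exact mem_conj.1 hw
  have ofA : ∀ a ∈ A, g * a * g⁻¹ ∈ (MulAut.conj s • WW V F : Subgroup G) := fun a ha => by
    rw [hA, mem_conj] at ha
    rw [mem_conj]
    have e : (g⁻¹ * s)⁻¹ * a * (g⁻¹ * s) = s⁻¹ * (g * a * g⁻¹) * s := by group
    rwa [e] at ha
  have memA' : ∀ w ∈ (MulAut.conj s • WW V F : Subgroup G), g⁻¹ * (q * w * q⁻¹) * g ∈ A' := fun w hw => by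
    rw [hA', mem_conj]
    have e : (g⁻¹ * q * s)⁻¹ * (g⁻¹ * (q * w * q⁻¹) * g) * (g⁻¹ * q * s) = s⁻¹ * w * s := by group
    rw [e]
    exact mem_conj.1 hw
  have ofA' : ∀ a ∈ A', q⁻¹ * (g * a * g⁻¹) * q ∈ (MulAut.conj s • WW V F : Subgroup G) := fun a ha => by
    rw [hA', mem_conj] at ha
    rw [mem_conj]
    have e : (g⁻¹ * q * s)⁻¹ * a * (g⁻¹ * q * s) = s⁻¹ * (q⁻¹ * (g * a * g⁻¹) * q) * s := by group
    rwa [e] at ha
  -- `v = t^(g⁻¹)`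
  set v : G := g⁻¹ * t * g with hv
  have hvL : v ∈ L := mem_conj.1 htg
  have hvA : v ∉ centralizer (A : Set G) := by
    intro h1
    refine ht ?_
    rw [mem_centralizer_iff]
    intro w hw
    have h2 := mem_centralizer_iff.1 h1 _ (memA w hw)
    rw [hv] at h2
    calc w * t = g * (g⁻¹ * w * g * (g⁻¹ * t * g)) * g⁻¹ := by group
      _ = g * (g⁻¹ * t * g * (g⁻¹ * w * g)) * g⁻¹ := by rw [h2]
      _ = t * w := by group
  have hvA' : v ∉ centralizer (A' : Set G) := by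
    intro h1
    refine ht ?_
    rw [mem_centralizer_iff]
    intro w hw
    have h2 := mem_centralizer_iff.1 h1 _ (memA' w hw)
    rw [hv] at h2
    have h3 : q⁻¹ * t * q = t := by
      have := hqL t htL
      calc q⁻¹ * t * q = q⁻¹ * (q * t * q⁻¹) * q := by rw [this]
        _ = t := by group
    calc w * t = w * (q⁻¹ * t * q) := by rw [h3]
      _ = q⁻¹ * g * (g⁻¹ * (q * w * q⁻¹) * g * (g⁻¹ * t * g)) * g⁻¹ * q := by group
      _ = q⁻¹ * g * (g⁻¹ * t * g * (g⁻¹ * (q * w * q⁻¹) * g)) * g⁻¹ * q := by rw [h2]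
      _ = q⁻¹ * t * q * w := by group
      _ = t * w := by rw [h3]
  have hnA : ¬ A ≤ centralizer (L : Set G) := fun h1 => hvA (by
    rw [mem_centralizer_iff]
    exact fun a ha => (mem_centralizer_iff.1 (h1 ha) v hvL).symm)
  have hnA' : ¬ A' ≤ centralizer (L : Set G) := fun h1 => hvA' (by
    rw [mem_centralizer_iff]
    exact fun a ha => (mem_centralizer_iff.1 (h1 ha) v hvL).symm)
  have mA : MinOffM L S A := h.dich _ hy1 hnA
  have mA' : MinOffM L S A' := h.dich _ hy2 hnA'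
  -- `[w, t] ∈ L`
  have hwt : ∀ w ∈ (MulAut.conj s • WW V F : Subgroup G), w * t * w⁻¹ * t⁻¹ ∈ L := fun w hw =>
    mul_mem (norm_conj_mem (h.PL (h.SP (hsP w hw))) htL) (inv_mem htL)
  -- the commutators with `v` are the same
  have hcv : ∀ w ∈ (MulAut.conj s • WW V F : Subgroup G),
      (g⁻¹ * w * g) * v * (g⁻¹ * w * g)⁻¹ * v⁻¹ =
        (g⁻¹ * (q * w * q⁻¹) * g) * v * (g⁻¹ * (q * w * q⁻¹) * g)⁻¹ * v⁻¹ := fun w hw => by
    have h1 := hqL _ (hwt w hw)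
    have h2 := hqL t htL
    have h3 : q * w * q⁻¹ * t * (q * w * q⁻¹)⁻¹ * t⁻¹ = w * t * w⁻¹ * t⁻¹ := by
      calc q * w * q⁻¹ * t * (q * w * q⁻¹)⁻¹ * t⁻¹
          = q * w * q⁻¹ * (q * t * q⁻¹) * (q * w * q⁻¹)⁻¹ * (q * t * q⁻¹)⁻¹ := by rw [h2]
        _ = q * (w * t * w⁻¹ * t⁻¹) * q⁻¹ := by group
        _ = w * t * w⁻¹ * t⁻¹ := h1
    calc (g⁻¹ * w * g) * v * (g⁻¹ * w * g)⁻¹ * v⁻¹ = g⁻¹ * (w * t * w⁻¹ * t⁻¹) * g := by rw [hv]; group
      _ = g⁻¹ * (q * w * q⁻¹ * t * (q * w * q⁻¹)⁻¹ * t⁻¹) * g := by rw [h3]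
      _ = _ := by rw [hv]; group
  have memcomm : ∀ (X : Subgroup G), ∀ a ∈ X, ∀ x ∈ L, a * x * a⁻¹ * x⁻¹ ∈ ⁅L, X⁆ := fun X a ha x hx => by
    have h1 := inv_mem (commutator_mem_commutator hx ha)
    have e : ⁅x, a⁆⁻¹ = a * x * a⁻¹ * x⁻¹ := by rw [commutatorElement_def]; group
    rwa [e] at h1
  have heq : ⁅L, A⁆ = ⁅L, A'⁆ := by
    apply le_antisymm
    · intro y hy
      obtain ⟨a, ha, rfl⟩ := h.rt.surj A mA v hvL hvA y hy
      have h1 := hcv _ (ofA a ha)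
      have e : g⁻¹ * (g * a * g⁻¹) * g = a := by group
      rw [e] at h1
      rw [h1]
      exact memcomm A' _ (memA' _ (ofA a ha)) v hvL
    · intro y hy
      obtain ⟨a, ha, rfl⟩ := h.rt.surj A' mA' v hvL hvA' y hy
      have h1 := hcv _ (ofA' a ha)
      have e : g⁻¹ * (q * (q⁻¹ * (g * a * g⁻¹) * q) * q⁻¹) * g = a := by group
      rw [e] at h1
      rw [← h1]
      exact memcomm A _ (memA _ (ofA' a ha)) v hvL
  -- `w` and `w^q` act on `L^g` in the same way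
  have hact : ∀ w ∈ (MulAut.conj s • WW V F : Subgroup G), ∀ x ∈ MulAut.conj g • L,
      w * x * w⁻¹ = (q * w * q⁻¹) * x * (q * w * q⁻¹)⁻¹ := by
    intro w hw x hx
    obtain ⟨a, ha, h1⟩ := h.rt.same A' A mA' mA heq.symm _ (memA' w hw)
    have h2 := hcv w hw
    have h3 := h1 v hvL
    have h4 : (g⁻¹ * w * g) * v * (g⁻¹ * w * g)⁻¹ = a * v * a⁻¹ := by
      rw [← h3]
      exact mul_right_cancel h2
    have h5 : a⁻¹ * (g⁻¹ * w * g) ∈ centralizer (L : Set G) := by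
      refine h.rt.inj A mA v hvL hvA _ (mul_mem (inv_mem ha) (memA w hw)) ?_
      calc a⁻¹ * (g⁻¹ * w * g) * v
          = a⁻¹ * ((g⁻¹ * w * g) * v * (g⁻¹ * w * g)⁻¹) * (g⁻¹ * w * g) := by group
        _ = a⁻¹ * (a * v * a⁻¹) * (g⁻¹ * w * g) := by rw [h4]
        _ = v * (a⁻¹ * (g⁻¹ * w * g)) := by group
    have hx' : g⁻¹ * x * g ∈ L := mem_conj.1 hx
    have h6 := mem_centralizer_iff.1 h5 _ hx'
    have h7 : (g⁻¹ * w * g) * (g⁻¹ * x * g) * (g⁻¹ * w * g)⁻¹ = a * (g⁻¹ * x * g) * a⁻¹ := by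
      calc (g⁻¹ * w * g) * (g⁻¹ * x * g) * (g⁻¹ * w * g)⁻¹
          = a * (a⁻¹ * (g⁻¹ * w * g) * (g⁻¹ * x * g)) * (g⁻¹ * w * g)⁻¹ := by group
        _ = a * (g⁻¹ * x * g * (a⁻¹ * (g⁻¹ * w * g))) * (g⁻¹ * w * g)⁻¹ := by rw [h6]
        _ = a * (g⁻¹ * x * g) * a⁻¹ := by group
    calc w * x * w⁻¹ = g * ((g⁻¹ * w * g) * (g⁻¹ * x * g) * (g⁻¹ * w * g)⁻¹) * g⁻¹ := by group
      _ = g * ((g⁻¹ * (q * w * q⁻¹) * g) * (g⁻¹ * x * g) * (g⁻¹ * (q * w * q⁻¹) * g)⁻¹) * g⁻¹ := by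
          rw [h7, h1 _ hx']
      _ = (q * w * q⁻¹) * x * (q * w * q⁻¹)⁻¹ := by group
  -- the end
  rw [mem_centralizer_iff]
  intro w hw
  have hlq : q * l * q⁻¹ ∈ MulAut.conj g • L := norm_conj_mem (h.Q_norm hg hq) hl
  -- `[w, l] ∈ L`
  have hwl : w * l * w⁻¹ * l⁻¹ ∈ L := by
    have h1 := memcomm A _ (memA w hw) _ (mem_conj.1 hl)
    obtain ⟨a, ha, h2⟩ := h.rt.surj A mA v hvL hvA _ h1
    have h3 := hwt _ (ofA a ha)
    have e : (g * a * g⁻¹) * t * (g * a * g⁻¹)⁻¹ * t⁻¹ = w * l * w⁻¹ * l⁻¹ := by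
      calc (g * a * g⁻¹) * t * (g * a * g⁻¹)⁻¹ * t⁻¹ = g * (a * v * a⁻¹ * v⁻¹) * g⁻¹ := by rw [hv]; group
        _ = w * l * w⁻¹ * l⁻¹ := by rw [h2]; group
    rwa [e] at h3
  have h1 := hqL _ hwl
  have h2 : w * (q * l * q⁻¹) * w⁻¹ * (q * l * q⁻¹)⁻¹ = w * l * w⁻¹ * l⁻¹ := by
    rw [hact w hw _ hlq, ← h1]
    group
  have hlV := h.conjLV hg hl
  have hlqV := h.conjLV hg hlq
  have hwV : w ∈ normalizer (V : Set G) := h.PV (h.SP (hsP w hw))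
  have h3 : w * l * w⁻¹ * (q * l * q⁻¹) = (q * l * q⁻¹) * (w * l * w⁻¹) :=
    h.toHyp.V_comm (norm_conj_mem hwV hlV) hlqV
  have h4 : w * (q * l * q⁻¹) * w⁻¹ = w * l * w⁻¹ * (l⁻¹ * (q * l * q⁻¹)) := by
    calc w * (q * l * q⁻¹) * w⁻¹ = w * (q * l * q⁻¹) * w⁻¹ * (q * l * q⁻¹)⁻¹ * (q * l * q⁻¹) := by group
      _ = w * l * w⁻¹ * l⁻¹ * (q * l * q⁻¹) := by rw [h2]
      _ = w * l * w⁻¹ * (l⁻¹ * (q * l * q⁻¹)) := by group
  have h5 : w * ((q * l * q⁻¹)⁻¹ * l) * w⁻¹ = (q * l * q⁻¹)⁻¹ * l := by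
    calc w * ((q * l * q⁻¹)⁻¹ * l) * w⁻¹ = (w * (q * l * q⁻¹) * w⁻¹)⁻¹ * (w * l * w⁻¹) := by group
      _ = (w * l * w⁻¹ * (l⁻¹ * (q * l * q⁻¹)))⁻¹ * (w * l * w⁻¹) := by rw [h4]
      _ = (q * l * q⁻¹)⁻¹ * l * ((w * l * w⁻¹)⁻¹ * (w * l * w⁻¹)) := by group
      _ = (q * l * q⁻¹)⁻¹ * l := by rw [inv_mul_cancel, mul_one]
  calc w * ((q * l * q⁻¹)⁻¹ * l) = w * ((q * l * q⁻¹)⁻¹ * l) * w⁻¹ * w := by group
    _ = (q * l * q⁻¹)⁻¹ * l * w := by rw [h5]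

end Sit

end Cfsg.Agent.Omega.NO3S.NTwo
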