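import Cfsg.Agent.Omega.NO3S.Act.NTwo.Inst
import Cfsg.Agent.Omega.NO3S.Act.AllGood

/-!
# GammaFF, (S2), (S3): the end (#20049, #20445, #21337)

* `UpAt S M V F` : either no type is active for `W_F`, or some active type `P` has `C_Z(P) = 1`, `V_R ≤ V_P` for all
  `R ∈ P*(S)` and `V_R = V_P` for the active ones (THEOREM ACT, THEOREM PAS and (S1));
* `good_of_up` : `UpAt` at the nearest bad line ⟹ all lines are good, `⟨Z^⟨P*(S)⟩⟩ ≤ E`.
-/

set_option autoImplicit false
set_option linter.unusedSectionVars false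

namespace Cfsg.Agent.Omega.NO3S.NTwo

open Subgroup Cfsg Cfsg.Agent.ZN Cfsg.Agent.Omega.MinPar Cfsg.Agent.Omega.Frame Cfsg.Agent.Omega.FrameNOFF
open Cfsg.Agent.Omega.NOne.Flat (Hyp EE NN BadX Cos card_mul_relIndex' conj_eq_of_norm conj_centralizer WW_conj
  EE_conj conj_eq_of_cent)
open Cfsg.Agent.Omega.NoFF.Basic (conj_conj mem_conj conj_le_iff conj_le_centralizer comm_symm Gal)
open Cfsg.Agent.Omega.NOThreeL.Low (Tp Blk Fr Ch BB)
open Cfsg.Agent.Omega.FrameFF (cv)
open Cfsg.Agent.Omega.FFThm (OffM NoOverM ConclM StmtM)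
open Cfsg.Agent.Omega.NO3S.Pas
open scoped Pointwise commutatorElement

universe u

local notation "Wf" => Cfsg.Agent.Omega.NOne.Flat.WW

variable {G : Type u} [Group G] [Finite G] {S : Sylow 2 G} {P V F : Subgroup G}

/-- **(S1) + ACT + PAS** at `S` for `W_F ≤ S`. -/
def UpAt (S : Sylow 2 G) (V F : Subgroup G) : Prop :=
  (∀ R, IsParS (S : Subgroup G) R → Wf V F ≤ o2 R) ∨
    ∃ P, IsParS (S : Subgroup G) P ∧ cv (S : Subgroup G) P = ⊥ ∧ ¬ Wf V F ≤ o2 P ∧
      ∀ R, IsParS (S : Subgroup G) R → zl (S : Subgroup G) R ≤ zl (S : Subgroup G) P ∧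
        (¬ Wf V F ≤ o2 R → zl (S : Subgroup G) R = zl (S : Subgroup G) P)

/-- There is a bad line at distance `n` from `S`. -/
def BadAt (S : Sylow 2 G) (V F : Subgroup G) (n : ℕ) : Prop :=
  ∃ g, Gal (PS (S : Subgroup G)) n 1 g ∧ ∃ R, IsParS (S : Subgroup G) R ∧
    ¬ MulAut.conj g • zl (S : Subgroup G) R ≤ EE V F

theorem gal_mem {M : Subgroup G} (hM : ∀ R, IsParS (S : Subgroup G) R → R ≤ M) {n : ℕ} {a g : G}
    (h : Gal (PS (S : Subgroup G)) n a g) (ha : a ∈ M) : g ∈ M := by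
  induction h with
  | zero => exact ha
  | step _ hP hp ih => exact mul_mem (ih ha) (hM _ hP hp)

/-- the first step of a gallery -/
theorem gal_first {n : ℕ} {g : G} (h : Gal (PS (S : Subgroup G)) (n + 1) 1 g) :
    ∃ R, IsParS (S : Subgroup G) R ∧ ∃ m ∈ R, Gal (PS (S : Subgroup G)) n m g := by
  have h1 := h.symm
  generalize hx : (1 : G) = x at h1
  cases h1 with
  | @step _ _ h' p R hg hP hp =>
    refine ⟨R, hP, p⁻¹, inv_mem hp, ?_⟩
    have e : h' = p⁻¹ := eq_inv_of_mul_eq_one_left hx.symm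
    rw [← e]
    exact hg.symm

theorem WFr.mk_conj {M : Subgroup G} (w : WFr S M V F) {a : G} (ha : a ∈ M)
    (hW : Wf V F ≤ MulAut.conj a • (S : Subgroup G)) : WFr S M V (MulAut.conj a⁻¹ • F) :=
  wfr_conj w (inv_mem ha) (by
    have h1 := conj_le_iff (g := a⁻¹).2 hW
    rwa [conj_conj, inv_mul_cancel, map_one, one_smul] at h1)

theorem badAt_conj {M : Subgroup G} (w : WFr S M V F) {a : G} (ha : a ∈ M) {n : ℕ} {g : G}
    (hg : Gal (PS (S : Subgroup G)) n a g) {R : Subgroup G} (hR : IsParS (S : Subgroup G) R)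
    (hb : ¬ MulAut.conj g • zl (S : Subgroup G) R ≤ EE V F) : BadAt S V (MulAut.conj a⁻¹ • F) n := by
  refine ⟨a⁻¹ * g, ?_, R, hR, ?_⟩
  · have h1 := hg.mul_left a⁻¹
    rwa [inv_mul_cancel] at h1
  · rw [← EE_conj (inv_mem (w.MV ha)), ← conj_conj]
    exact fun h1 => hb (conj_le_iff.1 h1)

/-- `Fr` from minimality over all `F'` with `W_F' ≤ S`. -/
theorem fr_of_min {M : Subgroup G} {n : ℕ} (hne : (PS (S : Subgroup G)).Nonempty)
    (hmin : ∀ j < n, ∀ F', WFr S M V F' → ¬ BadAt S V F' j) (w : WFr S M V F) : Fr S M V F n where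
  hc := w.hc
  noff := w.noff
  hyp := w.hyp
  PM := w.PM
  MV := w.MV
  ZV := w.ZV
  least := by
    rintro j hj g ⟨a, ha, haW, hg⟩ R hR
    by_contra hb
    exact hmin j hj _ (WFr.mk_conj w ha haW) (badAt_conj w ha hg hR hb)
  one := Ch.mono (Nat.zero_le n) hne w.ch_one

/-- **(S2), (S3) closed**: all lines are good. -/
theorem no_bad {M : Subgroup G} (hFF : StmtM.{u}) (hne : (PS (S : Subgroup G)).Nonempty)
    (hup : ∀ n F', 1 ≤ n → WFr S M V F' → Fr S M V F' n → BadAt S V F' n → UpAt S V F') :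
    ∀ n F', WFr S M V F' → ¬ BadAt S V F' n := by
  intro n
  induction n using Nat.strong_induction_on with
  | _ n ih =>
  intro F w hbad
  have h := fr_of_min (n := n) hne ih w
  obtain ⟨g, hg, R, hR, hb⟩ := hbad
  -- `n ≥ 1`
  obtain _ | k := n
  · generalize hx : (1 : G) = x at hg
    cases hg
    subst hx
    exact hb (w.good (one_mem M) (by rw [map_one, one_smul]; exact w.WS) hR)
  obtain ⟨R', hR', m, hm, hg'⟩ := gal_first hg
  have hmM : m ∈ M := w.PM R' hR' hm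
  -- the first panel is active
  have hact : ¬ Wf V F ≤ o2 R' := by
    intro hpas
    have h1 : Wf V F ≤ MulAut.conj m • (S : Subgroup G) := by
      have h2 := conj_le_iff (g := m).2 (hR'.isLoc.o2_le S)
      rw [conj_eq_of_norm (MinSimple.VModule.le_normalizer_o2 R' hm)] at h2
      exact hpas.trans h2
    exact ih k (by omega) _ (WFr.mk_conj w hmM h1) (badAt_conj w hmM hg' hR hb)
  rcases hup (k + 1) F (by omega) w h ⟨g, hg, R, hR, hb⟩ with h1 | ⟨P, hP, hcv, hPact, hle⟩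
  · exact hact (h1 R' hR')
  have hgood : zl (S : Subgroup G) P ≤ EE V F := w.zl_le_E hP
  have hbP : ¬ MulAut.conj g • zl (S : Subgroup G) P ≤ EE V F := fun h1 =>
    hb ((conj_le_iff.2 (hle R hR).1).trans h1)
  -- `n ≥ 2`
  have hk : 2 ≤ k + 1 := by
    by_contra hk
    obtain rfl : k = 0 := by omega
    cases hg'
    apply hbP
    rw [← (hle R' hR').2 hact, conj_eq_of_norm (MinSimple.VModule.le_normalizer_zl _ _ hm),
      (hle R' hR').2 hact]
    exact hgood
  -- all types normalise `V_P`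
  have hnorm : ∀ R, IsParS (S : Subgroup G) R → R ≤ normalizer (zl (S : Subgroup G) P : Set G) := by
    intro Q hQ
    by_cases hQp : Wf V F ≤ o2 Q
    · refine Dat.norm_le (n := k + 1) (M := M) (F := F) ⟨w, h, hk, hP, hcv, hPact, ?_, hQ, hQp, (hle Q hQ).1⟩ hFF
      exact ⟨k + 1, le_rfl, g, ⟨1, one_mem M, by rw [map_one, one_smul]; exact w.WS, hg⟩, hbP⟩
    · rw [← (hle Q hQ).2 hQp]
      exact MinSimple.VModule.le_normalizer_zl _ _
  apply hbP
  rw [conj_eq_of_norm (gal_mem hnorm hg (one_mem _))]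
  exact hgood

/-- all elements of `⟨P*(S)⟩` are reached by galleries -/
theorem exists_gal {g : G} (hg : g ∈ NOThreeL.Star.YS (S : Subgroup G)) : ∃ n, Gal (PS (S : Subgroup G)) n 1 g := by
  have hg' : g ∈ ⨆ i : PS (S : Subgroup G), (i : Subgroup G) := by
    rw [← sSup_eq_iSup']
    exact hg
  induction hg' using Subgroup.iSup_induction' with
  | hp i x hx =>
    refine ⟨1, ?_⟩
    have := Gal.one (F := PS (S : Subgroup G)) i.2 (g := 1) hx
    rwa [one_mul] at this
  | h1 => exact ⟨0, Gal.zero _⟩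
  | hmul x y hx' hy' hx hy =>
    obtain ⟨n, hn⟩ := hx (by
      change x ∈ sSup (PS (S : Subgroup G))
      rw [sSup_eq_iSup']
      exact hx')
    obtain ⟨k, hk⟩ := hy (by
      change y ∈ sSup (PS (S : Subgroup G))
      rw [sSup_eq_iSup']
      exact hy')
    refine ⟨n + k, hn.trans ?_⟩
    have := hk.mul_left x
    rwa [mul_one] at this

/-- **`⟨Z^⟨P*(S)⟩⟩ ≤ E`** -/
theorem all_good {M : Subgroup G} (hFF : StmtM.{u}) (w : WFr S M V F) (hP : IsParS (S : Subgroup G) P)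
    (hup : ∀ n F', 1 ≤ n → WFr S M V F' → Fr S M V F' n → BadAt S V F' n → UpAt S V F') :
    zl (S : Subgroup G) (NOThreeL.Star.YS (S : Subgroup G)) ≤ EE V F := by
  refine AllGood.zl_le_of (R := P) fun g hg => ?_
  obtain ⟨n, hn⟩ := exists_gal hg
  by_contra hb
  exact no_bad hFF ⟨P, hP⟩ hup n F w ⟨g, hn, P, hP, hb⟩

end Cfsg.Agent.Omega.NO3S.NTwo
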