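import Cfsg.Agent.Omega.NO3S.Act.NTwo.CaseOne

/-!
# `LRoot` from 863's `RP` and (D')
-/

set_option autoImplicit false
set_option linter.unusedSectionVars false

namespace Cfsg.Agent.Omega.NO3S.NTwo

open Subgroup Cfsg Cfsg.Agent.Omega.NoFF.Basic Cfsg.Agent.ZN Cfsg.Agent.ZN.ChoiceBase
open Cfsg.Agent.Omega.NOThreeL.NF (MinOffM RP)
open scoped Pointwise commutatorElement

universe u

variable {G : Type u} [Group G] [Finite G]

/-- `a v a⁻¹ v⁻¹` runs over a set with `≤ |A : C_A(v)|` elements -/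
theorem card_le_relIndex {A K : Subgroup G} {v : G} (hs : ∀ y ∈ K, ∃ a ∈ A, a * v * a⁻¹ * v⁻¹ = y) :
    Nat.card K ≤ (centralizer ({v} : Set G)).relIndex A := by
  have hs' : ∀ y : K, ∃ a : A, (a : G) * v * (a : G)⁻¹ * v⁻¹ = y := fun y => by
    obtain ⟨a, ha, h1⟩ := hs y y.2
    exact ⟨⟨a, ha⟩, h1⟩
  choose f hf using hs'
  rw [relIndex, index_eq_card]
  refine Nat.card_le_card_of_injective
    (fun y => (QuotientGroup.mk (f y) : A ⧸ (centralizer ({v} : Set G)).subgroupOf A)) ?_
  intro y y' hy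
  have h1 : (QuotientGroup.mk (f y) : A ⧸ (centralizer ({v} : Set G)).subgroupOf A) =
      QuotientGroup.mk (f y') := hy
  rw [QuotientGroup.eq, mem_subgroupOf, mem_centralizer_iff] at h1
  have h2 := h1 v rfl
  push_cast at h2
  have h3 : (f y : G) * v * (f y : G)⁻¹ = (f y' : G) * v * (f y' : G)⁻¹ := by
    calc (f y : G) * v * (f y : G)⁻¹ = (f y : G) * (v * ((f y : G)⁻¹ * (f y' : G))) * (f y' : G)⁻¹ := by group
      _ = (f y : G) * ((f y : G)⁻¹ * (f y' : G) * v) * (f y' : G)⁻¹ := by rw [h2]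
      _ = (f y' : G) * v * (f y' : G)⁻¹ := by group
  apply Subtype.ext
  rw [← hf y, ← hf y', h3]

/-- `LRoot` from `RP` and (D') -/
theorem LRoot.of_rp {S P : Subgroup G} (h : RP S P)
    (same : ∀ A B : Subgroup G, MinOffM (zl S P) S A → MinOffM (zl S P) S B → ⁅zl S P, A⁆ = ⁅zl S P, B⁆ →
      ∀ a ∈ A, ∃ b ∈ B, ∀ x ∈ zl S P, a * x * a⁻¹ = b * x * b⁻¹) : LRoot S (zl S P) where
  inj := by
    intro A hA v hv hvA a ha hav
    have h1 := card_le_relIndex (h.surj A hA v hv hvA)
    rw [h.card A hA] at h1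
    -- `C_A(L) ≤ C_A(v)`, same index
    have h2 : centralizer (zl S P : Set G) ⊓ A ≤ centralizer ({v} : Set G) ⊓ A := by
      refine inf_le_inf_right _ fun x hx => ?_
      rw [mem_centralizer_iff]
      rintro _ rfl
      exact mem_centralizer_iff.1 hx _ hv
    have h4 := card_inf_mul A (centralizer (zl S P : Set G))
    have h5 := card_inf_mul A (centralizer ({v} : Set G))
    rw [inf_comm] at h4 h5
    have h6 : Nat.card ↥(centralizer ({v} : Set G) ⊓ A) ≤ Nat.card ↥(centralizer (zl S P : Set G) ⊓ A) := by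
      by_contra hlt
      push Not at hlt
      have h7 : Nat.card A < Nat.card A := by
        calc Nat.card A = Nat.card ↥(centralizer (zl S P : Set G) ⊓ A) *
              (centralizer (zl S P : Set G)).relIndex A := h4.symm
          _ < Nat.card ↥(centralizer ({v} : Set G) ⊓ A) * (centralizer (zl S P : Set G)).relIndex A :=
              Nat.mul_lt_mul_of_pos_right hlt (Nat.pos_of_ne_zero (Pas.rne _ _))
          _ ≤ Nat.card ↥(centralizer ({v} : Set G) ⊓ A) * (centralizer ({v} : Set G)).relIndex A :=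
              Nat.mul_le_mul_left _ h1
          _ = Nat.card A := h5
      exact lt_irrefl _ h7
    have h7 := eq_of_le_of_card_ge h2 h6
    have h8 : a ∈ centralizer ({v} : Set G) ⊓ A := by
      refine mem_inf.2 ⟨?_, ha⟩
      rw [mem_centralizer_iff]
      rintro _ rfl
      exact hav.symm
    rw [← h7] at h8
    exact h8.1
  surj := h.surj
  same := same
  conj := by
    intro A B hA hB
    obtain ⟨s, hs, h1⟩ := h.conj A B hA hB
    exact ⟨s, hs, h1⟩

end Cfsg.Agent.Omega.NO3S.NTwo
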