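import Cfsg.Agent.Omega.NO3S.Act.NTwo.CaseOne
import Cfsg.Agent.Omega.NO3S.Act.DPrime
import Cfsg.Agent.Omega.NO3S.Act.NTwo.Rt
import Cfsg.Agent.Omega.NO3S.Act.Dich
import Cfsg.Agent.Omega.NO3S.Pas.KTwo
import Cfsg.Agent.Omega.NO3S.Pas.Gnr

/-!
# GammaFF: the instance of THEOREM N (#21337) over the front `Low.Fr S M V F n`, `n ≥ 2`

* `ch_conj`, `WFr.conj`, `fr_conj` : `F ↦ F^m`, `m ∈ M`;
* `min_of_const` : an offender `A ≤ S` on `V_P` with constant commutators is a minimal offender;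
* `const_conj`, `dich` : every `W^m ≤ S`, `m ∈ M`, centralises `V_P` or is a minimal offender on `V_P`;
* `I_le` : `|I : F| ≤ |V_P : V_P ∩ F|`; `I_eq` : `I = V_P F`;
* `sit` : 422's `Sit`; `norm_le` : `P' ≤ N(V_P)` for passive `P'`;
* `all_good` : all lines are good.
-/

set_option autoImplicit false
set_option linter.unusedSectionVars false

namespace Cfsg.Agent.Omega.NO3S.NTwo

open Subgroup Cfsg Cfsg.Agent.ZN Cfsg.Agent.Omega.MinPar Cfsg.Agent.Omega.Frame Cfsg.Agent.Omega.FrameNOFF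
open Cfsg.Agent.Omega.NOne.Flat (Hyp EE NN BadX Cos card_mul_relIndex' conj_eq_of_norm conj_centralizer WW_conj
  EE_conj conj_eq_of_cent)
open Cfsg.Agent.Omega.NOne.NearFF (c c_def)
open Cfsg.Agent.Omega.NoFF.Basic (conj_conj mem_conj conj_le_iff conj_le_centralizer comm_symm Gal)
open Cfsg.Agent.Omega.NOThreeL.Low (Tp Blk Fr Ch BB)
open Cfsg.Agent.Omega.NOThreeL.Low.Key (BH)
open Cfsg.Agent.Omega.FrameFF (cv)
open Cfsg.Agent.Omega.FFThm (OffM NoOverM ConclM StmtM)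
open Cfsg.Agent.Omega.NOThreeL.NF (MinOffM)
open Cfsg.Agent.Omega.NOThreeL.NF.NatR (Const)
open Cfsg.Agent.Omega.NO3S.Pas
open scoped Pointwise commutatorElement

universe u

local notation "Wf" => Cfsg.Agent.Omega.NOne.Flat.WW

variable {G : Type u} [Group G] [Finite G] {S : Sylow 2 G} {P V F : Subgroup G}

/-! ### conjugation of the front -/

theorem ch_conj {M : Subgroup G} {W : Subgroup G} {j : ℕ} {g m : G} (hm : m ∈ M)
    (h : Ch M (S : Subgroup G) W j g) : Ch M (S : Subgroup G) (MulAut.conj m • W) j (m * g) := by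
  obtain ⟨a, ha, haW, hg⟩ := h
  refine ⟨m * a, mul_mem hm ha, ?_, hg.mul_left m⟩
  rw [← conj_conj]
  exact conj_le_iff.2 haW

theorem ch_conj' {M : Subgroup G} {W : Subgroup G} {j : ℕ} {g m : G} (hm : m ∈ M)
    (h : Ch M (S : Subgroup G) (MulAut.conj m • W) j g) : Ch M (S : Subgroup G) W j (m⁻¹ * g) := by
  have h1 := ch_conj (inv_mem hm) h
  rwa [conj_conj, inv_mul_cancel, map_one, one_smul] at h1

theorem conj_le_inv {m : G} {A B : Subgroup G} (h : MulAut.conj m • A ≤ B) : A ≤ MulAut.conj m⁻¹ • B := by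
  have h1 := conj_le_iff (g := m⁻¹).2 h
  rwa [conj_conj, inv_mul_cancel, map_one, one_smul] at h1

theorem conj_inv_le {m : G} {A B : Subgroup G} (h : MulAut.conj m⁻¹ • A ≤ B) : A ≤ MulAut.conj m • B := by
  have h1 := conj_le_iff (g := m).2 h
  rwa [conj_conj, mul_inv_cancel, map_one, one_smul] at h1

theorem wfr_conj {M : Subgroup G} (w : WFr S M V F) {m : G} (hm : m ∈ M)
    (hW : MulAut.conj m • Wf V F ≤ (S : Subgroup G)) : WFr S M V (MulAut.conj m • F) where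
  hc := w.hc
  noff := w.noff
  low := w.low
  hyp := w.hyp.conj (w.MV hm)
  PM := w.PM
  MV := w.MV
  ZV := w.ZV
  WS := by rw [← WW_conj (w.MV hm)]; exact hW

theorem fr_conj {M : Subgroup G} {n : ℕ} (h : Fr S M V F n) {m : G} (hm : m ∈ M)
    (hone : Ch M (S : Subgroup G) (Wf V F) n m⁻¹) : Fr S M V (MulAut.conj m • F) n where
  hc := h.hc
  noff := h.noff
  hyp := h.hyp.conj (h.MV hm)
  PM := h.PM
  MV := h.MV
  ZV := h.ZV
  least := by
    intro j hj g hg R hR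
    rw [← WW_conj (h.MV hm)] at hg
    have h1 := h.least j hj _ (ch_conj' hm hg) R hR
    rw [← EE_conj (h.MV hm)]
    refine conj_inv_le ?_
    rwa [conj_conj]
  one := by
    rw [← WW_conj (h.MV hm)]
    have h1 := ch_conj hm hone
    rwa [mul_inv_cancel] at h1

/-! ### minimal offenders -/

/-- **An offender with constant commutators is a minimal offender.** -/
theorem min_of_const (hFF : StmtM.{u}) (hc : IsCharacteristicTwoType G) (hP : IsParS (S : Subgroup G) P)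
    (hcv : cv (S : Subgroup G) P = ⊥) {A : Subgroup G} (hA : A ≤ (S : Subgroup G))
    (hoff : OffM (zl (S : Subgroup G) P) A) (hcst : Const (zl (S : Subgroup G) P) A) :
    MinOffM (zl (S : Subgroup G) P) (S : Subgroup G) A := by
  obtain ⟨-, hC⟩ := hFF G (S : Subgroup G) P (FFThm.syl_of_sylow S hP.le) hP.toIsMinPar (hP.isLoc.char2 S hc)
    ⟨A, hA.trans hP.le, hoff⟩
  have hPW : P ≤ normalizer (zl (S : Subgroup G) P : Set G) :=
    Cfsg.Agent.MinSimple.VModule.le_normalizer_zl _ _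
  rcases hC with ⟨F, _, _, _, k, hk, ⟨M⟩⟩ | ⟨k, n, hk, hn, ⟨M⟩⟩
  · rw [hcv] at M
    exact NOThreeL.NF.NatR.min_of_const hPW hP.le M hA hoff hcst
  · rw [hcv] at M
    exact NOThreeL.NF.SymRP.min_of_const M (Half.amb_of_loc hc S hP.isLoc) (by omega) hA hoff hcst

/-- `W` has constant commutators on `L ≤ I`. -/
theorem const_W {M : Subgroup G} {n : ℕ} (h : Fr S M V F n)
    (hkey : F.relIndex (V ⊓ BL M (S : Subgroup G) V F n) ≤ (EE V F).relIndex V) {L : Subgroup G}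
    (hL : L ≤ V ⊓ BL M (S : Subgroup G) V F n) : Const L (Wf V F) := by
  intro x hx hxc y hy hyc a ha
  have hF : ∀ z, z ∈ L → z ∉ centralizer (Wf V F : Set G) → z ∉ F := fun z _ hzc hzF => hzc (by
    rw [← h.hyp.cent_VW] at hzF
    exact hzF.2)
  obtain ⟨t, ht, e⟩ := fr_root h hkey (hL hx) (hF x hx hxc) (hL hy) (hF y hy hyc) ha
  refine ⟨t, ht, ?_⟩
  have e1 : a * x * a⁻¹ * x⁻¹ = (c x a)⁻¹ := by rw [c]; group
  have e2 : t * y * t⁻¹ * y⁻¹ = (c y t)⁻¹ := by rw [c]; group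
  rw [e1, e2, e]

/-! ### a bad line at distance `≤ n` -/

/-- There is a bad line at distance `≤ n` of type natural^k or `S_n^k`. -/
def BadL (M : Subgroup G) (S : Sylow 2 G) (V F : Subgroup G) (n : ℕ) : Prop :=
  ∃ j ≤ n, ∃ g, Ch M (S : Subgroup G) (Wf V F) j g ∧ ∃ R, IsParS (S : Subgroup G) R ∧ Tp (S : Subgroup G) R ∧
    ¬ MulAut.conj g • zl (S : Subgroup G) R ≤ EE V F

theorem BadL.conj {M : Subgroup G} {n : ℕ} (hMV : M ≤ normalizer (V : Set G)) (hb : BadL M S V F n) {m : G}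
    (hm : m ∈ M) : BadL M S V (MulAut.conj m • F) n := by
  obtain ⟨j, hj, g, hg, R, hR, hT, hbad⟩ := hb
  refine ⟨j, hj, m * g, ?_, R, hR, hT, ?_⟩
  · rw [← WW_conj (hMV hm)]
    exact ch_conj hm hg
  · rw [← EE_conj (hMV hm), ← conj_conj]
    exact fun h1 => hbad (conj_le_iff.1 h1)

theorem BadL.key {M : Subgroup G} {n : ℕ} (hb : BadL M S V F n) (h : Fr S M V F n) :
    F.relIndex (V ⊓ BL M (S : Subgroup G) V F n) ≤ (EE V F).relIndex V := by
  obtain ⟨j, hj, g, hg, R, hR, hT, hbad⟩ := hb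
  exact fr_key h hj hg hR hT hbad

/-- the lines of the chambers which contain `W` are in `B` -/
theorem line_le_BL {M : Subgroup G} {n : ℕ} (h : Fr S M V F n) (hn : 1 ≤ n) {g : G} (hg : g ∈ M)
    (hW : Wf V F ≤ MulAut.conj g • (S : Subgroup G)) {R : Subgroup G} (hR : IsParS (S : Subgroup G) R) :
    MulAut.conj g • zl (S : Subgroup G) R ≤ BL M (S : Subgroup G) V F n :=
  (Fr.le_BB' (h.mem_Gd_of_lt (j := 0) (by omega) ⟨g, hg, hW, Gal.zero _⟩ hR)).trans le_sup_left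

theorem zl_le_BL {M : Subgroup G} {n : ℕ} (h : Fr S M V F n) (hn : 1 ≤ n)
    (hW : Wf V F ≤ (S : Subgroup G)) {R : Subgroup G} (hR : IsParS (S : Subgroup G) R) :
    zl (S : Subgroup G) R ≤ V ⊓ BL M (S : Subgroup G) V F n := by
  have h1 := line_le_BL h hn (one_mem M) (by rw [map_one, one_smul]; exact hW) hR
  rw [map_one, one_smul] at h1
  exact le_inf (h.zl_le_V hR) h1

theorem ch_inv {M : Subgroup G} {n : ℕ} {m : G} (hm : m ∈ M) (hne : (PS (S : Subgroup G)).Nonempty)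
    (hW : MulAut.conj m • Wf V F ≤ (S : Subgroup G)) : Ch M (S : Subgroup G) (Wf V F) n m⁻¹ :=
  Ch.mono (Nat.zero_le n) hne ⟨m⁻¹, inv_mem hm, conj_le_inv hW, Gal.zero _⟩

/-- **(D)** every `W^m ≤ S`, `m ∈ M`, centralises `V_P` or is a minimal offender on `V_P`. -/
theorem dich {M : Subgroup G} {n : ℕ} (hFF : StmtM.{u}) (w : WFr S M V F) (h : Fr S M V F n) (hn : 1 ≤ n)
    (hb : BadL M S V F n) (hP : IsParS (S : Subgroup G) P) (hcv : cv (S : Subgroup G) P = ⊥) {m : G} (hm : m ∈ M)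
    (hW : MulAut.conj m • Wf V F ≤ (S : Subgroup G))
    (hmov : ¬ MulAut.conj m • Wf V F ≤ centralizer (zl (S : Subgroup G) P : Set G)) :
    MinOffM (zl (S : Subgroup G) P) (S : Subgroup G) (MulAut.conj m • Wf V F) := by
  have w' := wfr_conj w hm hW
  have h' := fr_conj h hm (ch_inv hm ⟨P, hP⟩ hW)
  have hb' := hb.conj h.MV hm
  have hk := hb'.key h'
  have hact : ¬ Wf V (MulAut.conj m • F) ≤ o2 P := by
    rw [← WW_conj (h.MV hm), ← hP.inf_centralizer S h.hc]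
    exact fun h1 => hmov (h1.trans inf_le_right)
  have a := w'.act hP hcv hact
  have hoff := a.offM
  have hcst := const_W h' hk (zl_le_BL h' hn w'.WS hP)
  rw [← WW_conj (h.MV hm)] at hoff hcst
  exact min_of_const hFF h.hc hP hcv hW hoff hcst

/-! ### `I = V_P F` -/

open Cfsg.Agent.Omega.FFThm (NatK NatKM SymKM ActsSL) in
open Cfsg.Agent.Omega.Half (Amb amb_of_loc) in
open Cfsg.Agent.Omega.NO1.NSix in
open Cfsg.Agent.Omega.NatPair (ap ext2 ap_zero' ap_one' exists_ap ap_one) in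
open Cfsg.Agent.Lib.SL2Mat in
open Cfsg.Agent.Omega.NOThreeL.Low.PSeven (blk_em em_blk blk_mul blk_inv blk_ext) in
open Cfsg.Agent.Omega.NOThreeL.NF.NatR (ln) in
/-- `|I : F| ≤ 2` or `|I : F| ≤ |K|`, natural case. -/
theorem i_le_nat {B : Subgroup G} {K : Type} [Field K] [Finite K] [CharP K 2] {k : ℕ}
    (N : NatKM K (S : Subgroup G) P (zl (S : Subgroup G) P) ⊥ k)
    (hc : IsCharacteristicTwoType G) (hP : IsParS (S : Subgroup G) P)
    (bh : BH V F B) (hsq : ∀ b ∈ B, b ^ 2 = 1) (hBS : B ≤ (S : Subgroup G)) (hUV : zl (S : Subgroup G) P ≤ V)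
    (hUE : ¬ zl (S : Subgroup G) P ≤ EE V F) :
    F.relIndex (V ⊓ B) ≤ 2 ∨ F.relIndex (V ⊓ B) ≤ Nat.card K := by
  rw [or_iff_not_imp_left]
  intro h2
  push Not at h2
  have hQ := qb (P := P) bh hsq hBS hUV h2
  have hA : Amb (S : Subgroup G) P (zl (S : Subgroup G) P) := amb_of_loc hc S hP.toIsPar.isLoc
  -- a bad block
  obtain ⟨i, w, hw, hwE⟩ : ∃ i : Fin k, ∃ w, Blk N i w ∧ w ∉ EE V F := by
    by_contra hall
    push Not at hall
    exact hUE fun v hv => mem_of_em N.toNatK hv fun j => hall j _ (em_blk N j _)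
  have hi : NOThreeL.Low.Nat.Bad N.toNatK (EE V F) i := by
    refine ⟨N.e w i, ?_⟩
    rwa [blk_em N hw]
  have hact : ∀ b ∈ B, ∃ x : K, ∀ v, Blk N i v →
      Blk N i (b * v * b⁻¹) ∧ N.e (b * v * b⁻¹) i = ap (up x) (N.e v i) := by
    intro b hb
    obtain ⟨x, hx⟩ := hQ.exists_up hA hi hb
    refine ⟨x, fun v hv => ⟨⟨hA.conj_mem (hQ.BP hA hb) hv.1, fun j hj => ?_⟩, hx v hv.1⟩⟩
    obtain ⟨σ, hσ⟩ := N.perm b (hQ.BP hA hb)
    have hσi : σ i = i := hQ.fix hA hi hb hσ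
    have h1 := (hσ v hv.1 (σ.symm j)).2 (hv.2 _ fun h2 => hj (by rw [← hσi, ← h2, σ.apply_symm_apply]))
    rwa [σ.apply_symm_apply] at h1
  classical
  choose x hx using hact
  have act : NOThreeL.Low.PSeven.Act N B i (fun b => if hb : b ∈ B then x b hb else 0) := by
    intro b hb v hv
    have h1 := hx b hb v hv
    simp only [dif_pos hb]
    exact h1
  have hln : F.relIndex (V ⊓ B) ≤ F.relIndex (ln N {i}) := by
    refine Pas.relIndex_le_of_span fun y hy => ?_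
    obtain ⟨b, hb, hby⟩ := bh.surj (hUV hw.1) hwE hy
    refine ⟨c w b, ?_, bh.c_memI (hUV hw.1) hb, hby⟩
    have h3 := act.c_blk hb hw
    refine ⟨h3.1, fun j => ?_, fun j hj => h3.2 j hj⟩
    by_cases hj : j = i
    · subst hj
      exact act.c_one hb hw
    · rw [h3.2 j hj]
      rfl
  refine hln.trans ?_
  rw [← NOThreeL.NF.NatR.card_ln (M := N) i]
  exact Nat.le_of_dvd Nat.card_pos (relIndex_dvd_card _ _)

/-- `|I : F| ≤ 2`, symmetric case. -/
theorem i_le_sym {B : Subgroup G} {k m : ℕ} (M : FFThm.SymKM (S : Subgroup G) P (zl (S : Subgroup G) P) ⊥ k m)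
    (hP : IsParS (S : Subgroup G) P)
    (bh : BH V F B) (hsq : ∀ b ∈ B, b ^ 2 = 1) (hBS : B ≤ (S : Subgroup G)) (hUV : zl (S : Subgroup G) P ≤ V)
    (hUE : ¬ zl (S : Subgroup G) P ≤ EE V F) : F.relIndex (V ⊓ B) ≤ 2 := by
  by_contra h2
  push Not at h2
  have hQ := qb (P := P) bh hsq hBS hUV h2
  refine hUE (NOThreeL.Low.SymCase.le_of_t1 M.toSymK hP.le (MinSimple.VModule.le_normalizer_zl _ _) hBS ?_ ?_)
  · exact fun w hw b hb b' hb' => hQ.quad w hw b hb b' hb'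
  · exact fun w hw hwE h1 => hQ.t1 w hw hwE h1

/-- **`|I : F| ≤ |V_P : V_P ∩ F|`**, if a line of type `P` at distance `≤ n` is bad. -/
theorem I_le {M : Subgroup G} {n : ℕ} (h : Fr S M V F n) (hP : IsParS (S : Subgroup G) P)
    (hT : Tp (S : Subgroup G) P) {j : ℕ} (hj : j ≤ n) {g : G} (hg : Ch M (S : Subgroup G) (Wf V F) j g)
    (hUE : ¬ MulAut.conj g • zl (S : Subgroup G) P ≤ EE V F)
    (hmin : MinOffM (zl (S : Subgroup G) P) (S : Subgroup G) (Wf V F))
    (hex : (centralizer (zl (S : Subgroup G) P : Set G)).relIndex (Wf V F) = F.relIndex (zl (S : Subgroup G) P)) :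
    F.relIndex (V ⊓ BL M (S : Subgroup G) V F n) ≤ F.relIndex (zl (S : Subgroup G) P) := by
  have hgM : g ∈ M := h.mem_M hg
  have hgV := h.MV hgM
  have hgV' : g⁻¹ ∈ normalizer (V : Set G) := inv_mem hgV
  have eE : EE V (MulAut.conj g⁻¹ • F) = MulAut.conj g⁻¹ • EE V F := (EE_conj hgV').symm
  have b' := (bh h).conj hgV'
  have e1 : V ⊓ MulAut.conj g⁻¹ • BL M (S : Subgroup G) V F n =
      MulAut.conj g⁻¹ • (V ⊓ BL M (S : Subgroup G) V F n) := by
    rw [Subgroup.smul_inf, conj_eq_of_norm hgV']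
  have hsq : ∀ b ∈ MulAut.conj g⁻¹ • BL M (S : Subgroup G) V F n, b ^ 2 = 1 := by
    intro b hb
    rw [mem_conj] at hb
    have h2 := h.sup_sq _ hb
    rw [inv_inv] at h2
    have e : b ^ 2 = g⁻¹ * (g * b * g⁻¹) ^ 2 * g := by rw [pow_two, pow_two]; group
    rw [e, h2]
    group
  have hBS : MulAut.conj g⁻¹ • BL M (S : Subgroup G) V F n ≤ (S : Subgroup G) := by
    have h2 := conj_le_iff (g := g⁻¹).2 (BL_le_conj h hj hg)
    rwa [conj_conj, inv_mul_cancel, map_one, one_smul] at h2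
  have hU : ¬ zl (S : Subgroup G) P ≤ EE V (MulAut.conj g⁻¹ • F) := by
    intro h2
    apply hUE
    rw [eE] at h2
    have h3 := conj_le_iff (g := g).2 h2
    rwa [conj_conj, mul_inv_cancel, map_one, one_smul] at h3
  have hi : F.relIndex (V ⊓ BL M (S : Subgroup G) V F n) =
      (MulAut.conj g⁻¹ • F).relIndex (V ⊓ MulAut.conj g⁻¹ • BL M (S : Subgroup G) V F n) := by
    rw [e1, relIndex_pointwise_smul]
  have h2 : 2 ≤ F.relIndex (zl (S : Subgroup G) P) := by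
    have h3 : F.relIndex (zl (S : Subgroup G) P) ≠ 0 := index_ne_zero_of_finite
    have h4 : F.relIndex (zl (S : Subgroup G) P) ≠ 1 := by
      rw [← hex]
      intro h4
      exact hmin.off.ne (relIndex_eq_one.1 h4)
    omega
  rcases hT with ⟨K, _, _, _, k, hk, ⟨N⟩⟩ | ⟨k, m, hk, hm, ⟨N⟩⟩
  · have h3 := i_le_nat N h.hc hP b' hsq hBS (h.zl_le_V hP) hU
    rw [← hi] at h3
    rcases h3 with h3 | h3
    · exact h3.trans h2
    · have hPW : P ≤ normalizer (zl (S : Subgroup G) P : Set G) := MinSimple.VModule.le_normalizer_zl _ _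
      obtain ⟨i, hr⟩ := NOThreeL.NF.NatR.Rt.of (M := N) hPW hP.le hmin
      rwa [← hex, hr.relIndex hPW hP.le]
  · have h3 := i_le_sym N hP b' hsq hBS (h.zl_le_V hP) hU
    rw [← hi] at h3
    exact h3.trans h2

/-- **`I = V_P F`**. -/
theorem I_eq {M : Subgroup G} {n : ℕ}
    (hle : F.relIndex (V ⊓ BL M (S : Subgroup G) V F n) ≤ F.relIndex (zl (S : Subgroup G) P))
    (hL : zl (S : Subgroup G) P ≤ V ⊓ BL M (S : Subgroup G) V F n) :
    ∀ r ∈ V ⊓ BL M (S : Subgroup G) V F n, ∃ l ∈ zl (S : Subgroup G) P, l⁻¹ * r ∈ F := by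
  intro r hr
  have hcos : Cos id (zl (S : Subgroup G) P) F (V ⊓ BL M (S : Subgroup G) V F n) F :=
    ⟨fun u hu => hL hu, fun _ _ _ _ => Iff.rfl⟩
  exact hcos.surj hle hr

/-! ### the instance -/

/-- The situation: `n ≥ 2`, `P` active with `C_Z(P) = 1`, a line of type `P` at distance `≤ n` is bad, `P'` passive. -/
structure Dat (S : Sylow 2 G) (M V F P P' : Subgroup G) (n : ℕ) : Prop where
  w : WFr S M V F
  h : Fr S M V F n
  two : 2 ≤ n
  hP : IsParS (S : Subgroup G) P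
  cv : cv (S : Subgroup G) P = ⊥
  act : ¬ Wf V F ≤ o2 P
  bad : ∃ j ≤ n, ∃ g, Ch M (S : Subgroup G) (Wf V F) j g ∧ ¬ MulAut.conj g • zl (S : Subgroup G) P ≤ EE V F
  hP' : IsParS (S : Subgroup G) P'
  pas : Wf V F ≤ o2 P'
  le : zl (S : Subgroup G) P' ≤ zl (S : Subgroup G) P

namespace Dat

variable {M P' : Subgroup G} {n : ℕ} (d : Dat S M V F P P' n) (hFF : StmtM.{u})
include d

theorem mov : ¬ Wf V F ≤ centralizer (zl (S : Subgroup G) P : Set G) := d.w.mov d.hP d.act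

theorem one_le : 1 ≤ n := le_trans (by norm_num) d.two

theorem L_le : zl (S : Subgroup G) P ≤ V ⊓ BL M (S : Subgroup G) V F n := zl_le_BL d.h d.one_le d.w.WS d.hP

theorem not_I_le : ¬ V ⊓ BL M (S : Subgroup G) V F n ≤ F := by
  intro h1
  apply d.mov
  intro s hs
  rw [mem_centralizer_iff]
  exact fun l hl => NOne.Flat.Hyp.F_comm (h1 (d.L_le hl)) (NOne.Flat.Hyp.W_le_X hs)

include hFF in
theorem tp : Tp (S : Subgroup G) P := by
  obtain ⟨j, hj, g, hg, hbad⟩ := d.bad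
  exact fr_tp d.h hFF (d.w.low P d.hP) hj hg d.hP d.cv d.not_I_le hbad

include hFF in
theorem badL : BadL M S V F n := by
  obtain ⟨j, hj, g, hg, hbad⟩ := d.bad
  exact ⟨j, hj, g, hg, P, d.hP, d.tp hFF, hbad⟩

theorem WS' {g : G} (hg : g ∈ P') : MulAut.conj g • Wf V F ≤ (S : Subgroup G) := by
  have h1 := conj_le_iff (g := g).2 d.pas
  rw [conj_eq_of_norm (MinSimple.VModule.le_normalizer_o2 P' hg)] at h1
  exact h1.trans (d.hP'.isLoc.o2_le S)

theorem W_le {g : G} (hg : g ∈ P') : Wf V F ≤ MulAut.conj g • (S : Subgroup G) :=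
  conj_inv_le (d.WS' (inv_mem hg))

theorem a : BetaFF.Act S P V F := d.w.act d.hP d.cv d.act

include hFF in
theorem min : MinOffM (zl (S : Subgroup G) P) (S : Subgroup G) (Wf V F) := by
  have h1 := dich hFF d.w d.h d.one_le (d.badL hFF) d.hP d.cv (one_mem M)
    (by rw [map_one, one_smul]; exact d.w.WS) (by rw [map_one, one_smul]; exact d.mov)
  rwa [map_one, one_smul] at h1

include hFF in
/-- **422's `Sit`** -/
theorem sit : Sit (S : Subgroup G) V F (BL M (S : Subgroup G) V F n) P P' (zl (S : Subgroup G) P) where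
  toBH := bh d.h
  SP := d.hP.le
  SP' := d.hP'.le
  PV := d.w.PV d.hP
  PV' := d.w.PV d.hP'
  PL := MinSimple.VModule.le_normalizer_zl _ _
  PQ := d.w.PQ d.hP
  QS := fun g hg => by
    have h1 : (S : Subgroup G) ⊓ centralizer (zl (S : Subgroup G) P : Set G) ≤ o2 P' := by
      rw [← d.hP'.inf_centralizer S d.w.hc]
      exact inf_le_inf_left _ (centralizer_le d.le)
    refine h1.trans ?_
    rw [← conj_eq_of_norm (MinSimple.VModule.le_normalizer_o2 P' hg)]
    exact conj_le_iff.2 (d.hP'.isLoc.o2_le S)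
  WS := d.w.WS
  WS' := fun g hg => d.WS' hg
  LV := d.w.zl_le_V d.hP
  LB := fun g hg => line_le_BL d.h d.one_le (d.w.PM P' d.hP' hg) (d.W_le hg) d.hP
  mov := d.mov
  rt := LRoot.of_rp (rp_of_concl d.w.hc d.hP d.cv (d.a.ff hFF).2) (AllGood.same hFF d.w.hc S d.hP d.cv)
  dich := fun y hy hm => dich hFF d.w d.h d.one_le (d.badL hFF) d.hP d.cv (d.w.PM P' d.hP' hy) (d.WS' hy) hm
  irr := fun X hX hPX hne => irr d.a hFF X hX hPX hne
  cvq := cvq d.a hFF
  I_eq := by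
    obtain ⟨j, hj, g, hg, hbad⟩ := d.bad
    refine I_eq (I_le d.h d.hP (d.tp hFF) hj hg hbad (d.min hFF) ?_) d.L_le
    rw [d.a.exact hFF, d.a.relIndex_F]

include hFF in
/-- **THEOREM N**, `n ≥ 2`: `P'` normalises `V_P`. -/
theorem norm_le : P' ≤ normalizer (zl (S : Subgroup G) P : Set G) := by
  obtain ⟨p, hp⟩ := exists_gnr hFF d.w.hc d.hP d.cv (d.min hFF)
  have hch : ∀ g ∈ P', Ch M (S : Subgroup G) (Wf V F) 2 (p * g) := fun g hg =>
    (d.w.ch_par d.hP hp.mem).mul d.hP' hg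
  refine (d.sit hFF).main (p := p) ⟨hp.mem, hp.gen, hp.dis⟩ ?_ ?_ ?_
  · exact fun g hg => BL_le_conj d.h d.two (hch g hg)
  · exact fun g hg hE => (Fr.le_BB' (Fr.mem_Gd d.two (hch g hg) d.hP hE)).trans le_sup_left
  · exact fun g hg hE v hv => fr_span d.h d.two (hch g hg) d.hP (d.tp hFF) hE d.not_I_le hv

end Dat

end Cfsg.Agent.Omega.NO3S.NTwo
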