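import Cfsg.Agent.Omega.NO3S.Act.NTwo.Up
import Cfsg.Agent.Omega.NO3S.KeyRad.Act

/-!
# GammaFF: `⟨Z^⟨P*(S)⟩⟩ ≤ E` from one active `P` with `C_Z(P) = 1` (the mixed case)

The galleries are considered relative to the class `{F^m : m ∈ M}` of one `F` with an active `P`, `C_Z(P) = 1`.

* `fr_of_cls`, `no_bad_cls`, `all_good_cls` : 424's `no_bad` relative to a class `C` of conjugates;
* `card_zc_le` : `|Z| ≤ |[V_P, W]|` if `|Z| ≥ 4`;
* `four_le` : `P` active for `F`, `C_Z(P) = 1`, KEY; `R` active for `F^m`, `C_Z(R) ≠ 1` ⟹ `|[V_R, W^m]| ≥ 4`, and `W^m`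
  has constant commutators on `V_R`;
* `all_good_mixed` : `⟨Z^⟨P*(S)⟩⟩ ≤ E`, if there is no `F' = F^m`, `W_F' ≤ S`, with an active type `R`, `C_Z(R) ≠ 1`,
  `|[V_R, W_F']| ≥ 4`, such that all types `Q` with `C_Z(Q) = 1` are passive.
-/

set_option autoImplicit false
set_option linter.unusedSectionVars false

namespace Cfsg.Agent.Omega.NO3S.NTwo

open Subgroup Cfsg Cfsg.Agent.ZN Cfsg.Agent.Omega.MinPar Cfsg.Agent.Omega.Frame Cfsg.Agent.Omega.FrameNOFF
open Cfsg.Agent.Omega.NOne.Flat (EE WW_conj EE_conj conj_eq_of_norm)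
open Cfsg.Agent.Omega.NOne.NearFF (c c_def)
open Cfsg.Agent.Omega.NoFF.Basic (conj_conj mem_conj conj_le_iff Gal)
open Cfsg.Agent.Omega.NOThreeL.Low (Fr Ch)
open Cfsg.Agent.Omega.FrameFF (cv)
open Cfsg.Agent.Omega.FFThm (StmtM)
open Cfsg.Agent.Omega.NO3S.Pas
open Cfsg.Agent.Omega.NOThreeL.NF.NatR (Const)
open scoped Pointwise commutatorElement

universe u

set_option maxHeartbeats 400000

local notation "Wf" => Cfsg.Agent.Omega.NOne.Flat.WW

variable {G : Type u} [Group G] [Finite G] {S : Sylow 2 G} {M V F : Subgroup G} {n : ℕ}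

/-! ### The galleries relative to a class of conjugates -/

section cls

variable {C : Subgroup G → Prop} (hC : ∀ F' a, C F' → a ∈ M → C (MulAut.conj a • F'))
include hC

/-- `Fr` from minimality over the class. -/
theorem fr_of_cls (hne : (PS (S : Subgroup G)).Nonempty)
    (hmin : ∀ j < n, ∀ F', C F' → WFr S M V F' → ¬ BadAt S V F' j) (hF : C F) (w : WFr S M V F) :
    Fr S M V F n where
  hc := w.hc
  noff := w.noff
  hyp := w.hyp
  PM := w.PM
  MV := w.MV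
  ZV := w.ZV
  least := by
    rintro j hj g ⟨a, ha, haW, hg⟩ R hR
    by_contra hb
    exact hmin j hj _ (hC _ _ hF (inv_mem ha)) (WFr.mk_conj w ha haW) (badAt_conj w ha hg hR hb)
  one := Ch.mono (Nat.zero_le n) hne w.ch_one

/-- **(S2), (S3) closed**, relative to a class. -/
theorem no_bad_cls (hFF : StmtM.{u}) (hne : (PS (S : Subgroup G)).Nonempty)
    (hup : ∀ n F', 1 ≤ n → C F' → WFr S M V F' → (∀ F'', C F'' → WFr S M V F'' → Fr S M V F'' n) →
      BadAt S V F' n → UpAt S V F') :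
    ∀ n F', C F' → WFr S M V F' → ¬ BadAt S V F' n := by
  intro n
  induction n using Nat.strong_induction_on with
  | _ n ih =>
  intro F hCF w hbad
  have h := fr_of_cls (n := n) hC hne ih hCF w
  obtain ⟨g, hg, R, hR, hb⟩ := hbad
  -- `n ≥ 1`
  obtain _ | k := n
  · generalize hx : (1 : G) = x at hg
    cases hg
    subst hx
    exact hb (w.good (one_mem M) (by rw [map_one, one_smul]; exact w.WS) hR)
  obtain ⟨R', hR', m, hm, hg'⟩ := gal_first hg
  have hmM : m ∈ M := w.PM R' hR' hm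
  -- the first panel is active
  have hact : ¬ Wf V F ≤ o2 R' := by
    intro hpas
    have h1 : Wf V F ≤ MulAut.conj m • (S : Subgroup G) := by
      have h2 := conj_le_iff (g := m).2 (hR'.isLoc.o2_le S)
      rw [conj_eq_of_norm (MinSimple.VModule.le_normalizer_o2 R' hm)] at h2
      exact hpas.trans h2
    exact ih k (by omega) _ (hC _ _ hCF (inv_mem hmM)) (WFr.mk_conj w hmM h1) (badAt_conj w hmM hg' hR hb)
  rcases hup (k + 1) F (by omega) hCF w (fun F'' h1 h2 => fr_of_cls hC hne ih h1 h2) ⟨g, hg, R, hR, hb⟩ with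
    h1 | ⟨P, hP, hcv, hPact, hle⟩
  · exact hact (h1 R' hR')
  have hgood : zl (S : Subgroup G) P ≤ EE V F := w.zl_le_E hP
  have hbP : ¬ MulAut.conj g • zl (S : Subgroup G) P ≤ EE V F := fun h1 =>
    hb ((conj_le_iff.2 (hle R hR).1).trans h1)
  -- `n ≥ 2`
  have hk : 2 ≤ k + 1 := by
    by_contra hk
    obtain rfl : k = 0 := by omega
    cases hg'
    apply hbP
    rw [← (hle R' hR').2 hact, conj_eq_of_norm (MinSimple.VModule.le_normalizer_zl _ _ hm),
      (hle R' hR').2 hact]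
    exact hgood
  -- all types normalise `V_P`
  have hnorm : ∀ R, IsParS (S : Subgroup G) R → R ≤ normalizer (zl (S : Subgroup G) P : Set G) := by
    intro Q hQ
    by_cases hQp : Wf V F ≤ o2 Q
    · refine Dat.norm_le (n := k + 1) (M := M) (F := F) ⟨w, h, hk, hP, hcv, hPact, ?_, hQ, hQp, (hle Q hQ).1⟩ hFF
      exact ⟨k + 1, le_rfl, g, ⟨1, one_mem M, by rw [map_one, one_smul]; exact w.WS, hg⟩, hbP⟩
    · rw [← (hle Q hQ).2 hQp]
      exact MinSimple.VModule.le_normalizer_zl _ _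
  apply hbP
  rw [conj_eq_of_norm (gal_mem hnorm hg (one_mem _))]
  exact hgood

/-- **`⟨Z^⟨P*(S)⟩⟩ ≤ E`**, relative to a class. -/
theorem all_good_cls {P : Subgroup G} (hFF : StmtM.{u}) (hF : C F) (w : WFr S M V F)
    (hP : IsParS (S : Subgroup G) P)
    (hup : ∀ n F', 1 ≤ n → C F' → WFr S M V F' → (∀ F'', C F'' → WFr S M V F'' → Fr S M V F'' n) →
      BadAt S V F' n → UpAt S V F') :
    zl (S : Subgroup G) (NOThreeL.Star.YS (S : Subgroup G)) ≤ EE V F := by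
  refine AllGood.zl_le_of (R := P) fun g hg => ?_
  obtain ⟨n, hn⟩ := exists_gal hg
  by_contra hb
  exact no_bad_cls hC hFF ⟨P, hP⟩ hup n F hF w ⟨g, hn, P, hP, hb⟩

end cls

/-! ### `|[V_R, W^m]| ≥ 4` -/

/-- `|Z| ≤ |[V_P, W]|` -/
theorem card_zc_le (hFF : StmtM.{u}) {P : Subgroup G} (a : BetaFF.Act S P V F)
    (hm : NOThreeL.NF.MinOffM (zl (S : Subgroup G) P) (S : Subgroup G) (Wf V F))
    (h4 : 4 ≤ Nat.card (zc (S : Subgroup G))) :
    Nat.card (zc (S : Subgroup G)) ≤ Nat.card ↥(⁅zl (S : Subgroup G) P, Wf V F⁆ : Subgroup G) := by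
  have hcon := (a.ff hFF).2
  have hrp := rp_of_concl a.char2 a.par a.cv hcon
  rcases hcon with ⟨K, fK, fiK, cK, k, hk, ⟨N⟩⟩ | ⟨k, m, hk, hm', ⟨N⟩⟩
  · have h6 := KeyRad.card_zc_nat a.char2 a.par hk N a.cv
    have hb := ThmB.Inst.nb a.char2 a.par N
    obtain ⟨I, ⟨i, hi⟩, h1, h2⟩ := KeyRad.exists_blocks hb a.WS a.offM
    have h3 := KeyRad.pow_le hb h2
    have h8 : 1 ≤ Nat.card I := Nat.one_le_iff_ne_zero.2 (Nat.card_ne_zero.2 ⟨⟨⟨i, hi⟩⟩, inferInstance⟩)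
    rw [hrp.card _ hm, a.exact hFF]
    refine h6.trans (le_trans ?_ h3)
    calc Nat.card K = Nat.card K ^ 1 := (pow_one _).symm
      _ ≤ _ := Nat.pow_le_pow_right Nat.card_pos h8
  · have h6 := KeyRad.card_zc_sym a.char2 a.par hk hm' N a.cv
    omega

/-- `[V_P, W_F]^m ≤ [V_R, W_F^m]` -/
theorem comm_le_conj {P R : Subgroup G} {B : Subgroup G} (hrp : NOThreeL.NF.RP (S : Subgroup G) P)
    (hr : Root V F B) (hLI : zl (S : Subgroup G) P ≤ B)
    (hm : NOThreeL.NF.MinOffM (zl (S : Subgroup G) P) (S : Subgroup G) (Wf V F)) {m : G}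
    (hmV : m ∈ normalizer (V : Set G)) (hLR : MulAut.conj m⁻¹ • zl (S : Subgroup G) R ≤ B)
    (hmv : ¬ Wf V (MulAut.conj m • F) ≤ centralizer (zl (S : Subgroup G) R : Set G)) :
    MulAut.conj m • ⁅zl (S : Subgroup G) P, Wf V F⁆ ≤ ⁅zl (S : Subgroup G) R, Wf V (MulAut.conj m • F)⁆ := by
  obtain ⟨v, hv, hvc⟩ : ∃ v ∈ zl (S : Subgroup G) R, v ∉ centralizer (Wf V (MulAut.conj m • F) : Set G) := by
    by_contra hcon
    push Not at hcon
    exact hmv (le_centralizer_iff.1 hcon)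
  have hvF : m⁻¹ * v * m ∉ F := by
    intro h1
    apply hvc
    rw [mem_centralizer_iff]
    intro w hw
    have h2 : v ∈ MulAut.conj m • F := by rw [mem_conj]; exact h1
    exact (NOne.Flat.Hyp.F_comm h2 (NOne.Flat.Hyp.W_le_X hw)).symm
  have hvB : m⁻¹ * v * m ∈ B := by
    apply hLR
    rw [mem_conj, inv_inv]
    have e : m * (m⁻¹ * v * m) * m⁻¹ = v := by group
    rwa [e]
  intro x hx
  rw [mem_conj, mem_comm_iff hrp hr hLI hm hvB hvF] at hx
  obtain ⟨a, ha, h1⟩ := hx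
  have h2 : x = c v (m * a * m⁻¹) := by
    have e : c v (m * a * m⁻¹) = m * c (m⁻¹ * v * m) a * m⁻¹ := by
      rw [c_def, c_def]; group
    rw [e, h1]
    group
  rw [h2, c_def, ← commutatorElement_def]
  refine commutator_mem_commutator hv ?_
  rw [← WW_conj hmV, mem_conj]
  have e : m⁻¹ * (m * a * m⁻¹) * m = a := by group
  rwa [e]

/-- **(c)** `P` active for `F`, `C_Z(P) = 1`, KEY; `R` active for `F^m`, `C_Z(R) ≠ 1` ⟹ `|[V_R, W^m]| ≥ 4`, and `W^m` has
constant commutators on `V_R`. -/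
theorem four_le (hFF : StmtM.{u}) (w : WFr S M V F) (h : Fr S M V F n) {P : Subgroup G}
    (hP : IsParS (S : Subgroup G) P) (hcv : cv (S : Subgroup G) P = ⊥) (hact : ¬ Wf V F ≤ o2 P)
    (hk : Key V F (BL M (S : Subgroup G) V F n)) {m : G} (hm : m ∈ M) (w' : WFr S M V (MulAut.conj m • F))
    {R : Subgroup G} (hR : IsParS (S : Subgroup G) R) (hcvR : cv (S : Subgroup G) R ≠ ⊥)
    (hactR : ¬ Wf V (MulAut.conj m • F) ≤ o2 R) :
    4 ≤ Nat.card ↥(⁅zl (S : Subgroup G) R, Wf V (MulAut.conj m • F)⁆ : Subgroup G) ∧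
      Const (zl (S : Subgroup G) R) (Wf V (MulAut.conj m • F)) := by
  have a := w.act hP hcv hact
  have hmV := w.MV hm
  have hmin := w.minN hFF h hP hcv hact hk
  have h4 := KeyRad.four_le_zc w.hc hR hcvR
  have hW : Wf V F ≤ MulAut.conj m⁻¹ • (S : Subgroup G) := by
    have h1 := w'.WS
    rw [← WW_conj hmV] at h1
    exact conj_le_inv h1
  have h1 : MulAut.conj m⁻¹ • zl (S : Subgroup G) R ≤ V ⊓ BL M (S : Subgroup G) V F n :=
    le_inf (h.line_le_V (inv_mem hm) hR) (w.line_le_BN n (inv_mem hm) hW hR)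
  have hroot := w.rootN h hP hact hk
  have h2 := comm_le_conj (rp_of_concl w.hc hP hcv (a.ff hFF).2) hroot (w.L_le_IN n hP) hmin hmV
    h1 (w'.mov hR hactR)
  refine ⟨h4.trans ((card_zc_le hFF a hmin h4).trans (le_trans (le_of_eq ?_) (card_le_of_le h2))),
    (hroot.conj hmV).const ?_⟩
  · exact (Nat.card_congr (Subgroup.equivSMul (MulAut.conj m) _).toEquiv)
  · have h3 := conj_le_iff (g := m).2 h1
    rwa [conj_conj, mul_inv_cancel, map_one, one_smul] at h3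

/-- **`⟨Z^⟨P*(S)⟩⟩ ≤ E`** from one active type `P` with `C_Z(P) = 1` and (S1) in the mixed case. -/
theorem all_good_mixed {P : Subgroup G} (hFF : StmtM.{u}) (w : WFr S M V F) (hP : IsParS (S : Subgroup G) P)
    (hcv : cv (S : Subgroup G) P = ⊥) (hact : ¬ Wf V F ≤ o2 P)
    (hs : ∀ F', WFr S M V F' → ∀ R, IsParS (S : Subgroup G) R → cv (S : Subgroup G) R ≠ ⊥ →
      ¬ Wf V F' ≤ o2 R → (∀ Q, IsParS (S : Subgroup G) Q → cv (S : Subgroup G) Q = ⊥ → Wf V F' ≤ o2 Q) →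
        Const (zl (S : Subgroup G) R) (Wf V F') →
          ¬ 4 ≤ Nat.card ↥(⁅zl (S : Subgroup G) R, Wf V F'⁆ : Subgroup G)) :
    zl (S : Subgroup G) (NOThreeL.Star.YS (S : Subgroup G)) ≤ EE V F := by
  refine all_good_cls (C := fun F' => ∃ m ∈ M, F' = MulAut.conj m • F) ?_ hFF
    ⟨1, one_mem _, by rw [map_one, one_smul]⟩ w hP ?_
  · rintro F' a ⟨m, hm, rfl⟩ ha
    exact ⟨a * m, mul_mem ha hm, by rw [conj_conj]⟩
  rintro n F' hn ⟨m, hm, rfl⟩ w' hfr hbad
  obtain ⟨g, hg, R, hR, hb⟩ := hbad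
  refine upAt_one hFF w' (hfr _ ⟨m, hm, rfl⟩ w') hn (fun Q hQ hcQ haQ => ?_) fun ⟨Q, hQ, haQ⟩ => ?_
  · exact KeyRad.key_fr hFF (hfr _ ⟨m, hm, rfl⟩ w') w' hQ hcQ haQ hR le_rfl
      ⟨1, one_mem M, by rw [map_one, one_smul]; exact w'.WS, hg⟩ hb
  -- an active type with `C_Z = 1`
  by_contra hcon
  push Not at hcon
  have hfr0 := hfr F ⟨1, one_mem _, by rw [map_one, one_smul]⟩ w
  have hbad : ¬ MulAut.conj (m⁻¹ * g) • zl (S : Subgroup G) R ≤ EE V F := by
    intro h1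
    apply hb
    have h2 := conj_le_iff (g := m).2 h1
    rw [conj_conj, EE_conj (w.MV hm)] at h2
    rwa [mul_inv_cancel_left] at h2
  have hch : Ch M (S : Subgroup G) (Wf V F) n (m⁻¹ * g) := by
    have h1 : Ch M (S : Subgroup G) (Wf V (MulAut.conj m • F)) n g :=
      ⟨1, one_mem M, by rw [map_one, one_smul]; exact w'.WS, hg⟩
    rw [← WW_conj (w.MV hm)] at h1
    exact ch_conj' hm h1
  have hk := KeyRad.key_fr hFF hfr0 w hP hcv hact hR le_rfl hch hbad
  obtain ⟨h4, hcst⟩ := four_le hFF w hfr0 hP hcv hact hk hm w' hQ (fun h1 => haQ (hcon Q hQ h1)) haQ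
  exact hs _ w' Q hQ (fun h1 => haQ (hcon Q hQ h1)) haQ hcon hcst h4

end Cfsg.Agent.Omega.NO3S.NTwo
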