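import Cfsg.Agent.Omega.NO3S.Act.NTwo.Mixed
import Cfsg.Agent.Omega.NO3S.Act.GamUniq
import Cfsg.Agent.Omega.NO3S.GFF.S1.Loc

/-!
# GammaFF: `GamUniq` from (S1) in the local form

* `SFour` : (S1) in the local form `RadW S P R F` for `|[V_R, W_F]| ≥ 4`, `W_F` with constant commutators on `V_R`;
* `gamUniq_of_four` : `SFour → GamUniq K`.
-/

set_option autoImplicit false

namespace Cfsg.Agent.Omega.NO3S.NTwo

open Subgroup Cfsg Cfsg.Agent.ZN Cfsg.Agent.Omega.MinPar Cfsg.Agent.Omega.Frame Cfsg.Agent.Omega.FrameNOFF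
open Cfsg.Agent.Omega.FrameFF (cv)
open Cfsg.Agent.Omega.NO3S.Level
open Cfsg.Agent.Omega.NO3S.GFF.S1 (RadW)
open Cfsg.Agent.Omega.NOThreeL.Merge (MZ)
open scoped commutatorElement

universe u

/-- **(S1)**, local form, `q₀ ≥ 4`, constant commutators. -/
def SFour : Prop :=
  ∀ (G : Type u) [Group G] [Finite G] (S : Sylow 2 G) (P R F : Subgroup G), RadW S P R F →
    NOThreeL.NF.NatR.Const (zl (S : Subgroup G) R) (NOne.Flat.WW (X0 (S : Subgroup G)) F) → ¬ 4 ≤ Nat.card ↥(⁅zl (S : Subgroup G) R, NOne.Flat.WW (X0 (S : Subgroup G)) F⁆ : Subgroup G)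

/-- `⟨Z^⟨P*(S)⟩⟩ ≤ E_F` -/
theorem wst_le (h4 : SFour.{u}) {G : Type u} [Group G] [Finite G] {S : Sylow 2 G} {P F : Subgroup G}
    (h : WSt S P F) (h0 : zc (S : Subgroup G) ⊓ centralizer (P : Set G) = ⊥) :
    zl (S : Subgroup G) (MZ (S : Subgroup G)) ≤ NOne.Flat.EE (X0 (S : Subgroup G)) F := by
  refine all_good_mixed FF.Glob.ffthmM h.wfr h.par (h.cv_eq h0) h.mv ?_
  intro F' w' R hR hcvR haR hpas hcst hc
  obtain ⟨Q, hQ, hN⟩ := h.ex
  have hy := h.toHypC.hypN hQ hN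
  have hw : WSt S R F' := { toW0 := h.toW0, par := hR, hyp := w'.hyp, WS := w'.WS, mv := haR }
  have hz : zc (S : Subgroup G) ⊓ centralizer (R : Set G) ≠ ⊥ := fun h1 =>
    hcvR (NoFF.LinesPlug.inf_oddGen_eq_bot h.ctx.char2 S hR.toIsPar h1)
  exact h4 G S Q R F' { toWSt := hw, pss := ⟨hQ, hN⟩, hz := hz, hp := hpas Q hQ hy.toHyp.cv } hcst hc

/-- **`GamUniq`** -/
theorem gamUniq_of_four (h4 : SFour.{u}) (K : Cls.{u}) : GamUniq K :=
  gamUniq_of_le K fun _ _ _ _ _ _ _ h h0 => Or.inl (wst_le h4 h h0)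

end Cfsg.Agent.Omega.NO3S.NTwo
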