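import Cfsg.Agent.Omega.NO3S.Act.NTwo.Final
import Cfsg.Agent.Omega.NO3S.Pas.PasN
import Cfsg.Agent.Omega.NO3S.ActT.Inst
import Cfsg.Agent.Omega.NO3S.ActT.Zero

/-!
# GammaFF: `UpAt` from the KEY (THEOREM ACT + THEOREM PAS)

* `upAt` : the KEY for the nearest bad line and `C_Z(R) = 1` for the active types `R` give `UpAt S V F`;
* `upAt'` : the same from one active type `P` with `C_Z(P) = 1` ((S1)) and ACT (0);
* `upAt_one` : the same from one active type `P` with `C_Z(P) = 1` (ACT (0) plugged);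
* `all_good_of_key` : `⟨Z^⟨P*(S)⟩⟩ ≤ E` from the KEY and `C_Z(R) = 1` for the active types, for all conjugates of `F`;
* `all_good_of_one` : `⟨Z^⟨P*(S)⟩⟩ ≤ E` from the KEY and (S1).
-/

set_option autoImplicit false
set_option linter.unusedSectionVars false

namespace Cfsg.Agent.Omega.NO3S.NTwo

open Subgroup Cfsg Cfsg.Agent.ZN Cfsg.Agent.Omega.MinPar Cfsg.Agent.Omega.Frame Cfsg.Agent.Omega.FrameNOFF
open Cfsg.Agent.Omega.NOne.Flat (EE)
open Cfsg.Agent.Omega.NOThreeL.Low (Fr)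
open Cfsg.Agent.Omega.FrameFF (cv)
open Cfsg.Agent.Omega.FFThm (StmtM)
open Cfsg.Agent.Omega.NO3S.Pas

universe u

local notation "Wf" => Cfsg.Agent.Omega.NOne.Flat.WW

variable {G : Type u} [Group G] [Finite G] {S : Sylow 2 G} {M V F : Subgroup G} {n : ℕ}

/-- **UpAt** from the KEY and `C_Z(R) = 1` for the active types. -/
theorem upAt (hFF : StmtM.{u}) (w : WFr S M V F) (h : Fr S M V F n) (hn : 1 ≤ n)
    (hk : ∀ P, IsParS (S : Subgroup G) P → cv (S : Subgroup G) P = ⊥ → ¬ Wf V F ≤ o2 P →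
      Key V F (BL M (S : Subgroup G) V F n))
    (hcv : ∀ R, IsParS (S : Subgroup G) R → ¬ Wf V F ≤ o2 R → cv (S : Subgroup G) R = ⊥) : UpAt S V F := by
  by_cases hact : ∀ R, IsParS (S : Subgroup G) R → Wf V F ≤ o2 R
  · exact Or.inl hact
  push Not at hact
  obtain ⟨P, hP, hPa⟩ := hact
  have hk' := hk P hP (hcv P hP hPa) hPa
  have heq : ∀ R, IsParS (S : Subgroup G) R → ¬ Wf V F ≤ o2 R → zl (S : Subgroup G) R = zl (S : Subgroup G) P :=
    fun R hR hRa => w.act_eq h hn hFF hk' hP (hcv P hP hPa) hPa hR (hcv R hR hRa) hRa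
  refine Or.inr ⟨P, hP, hcv P hP hPa, hPa, fun R hR => ⟨?_, heq R hR⟩⟩
  by_cases hRa : Wf V F ≤ o2 R
  · exact w.passive hFF h hn hP (hcv P hP hPa) hPa hk' hR hRa
  · exact (heq R hR hRa).le

/-- **UpAt** from one active type with `C_Z(P) = 1` ((S1)) and ACT (0). -/
theorem upAt' (hFF : StmtM.{u}) (w : WFr S M V F) (h : Fr S M V F n) (hn : 1 ≤ n)
    (hk : ∀ P, IsParS (S : Subgroup G) P → cv (S : Subgroup G) P = ⊥ → ¬ Wf V F ≤ o2 P →
      Key V F (BL M (S : Subgroup G) V F n))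
    (hone : (∃ R, IsParS (S : Subgroup G) R ∧ ¬ Wf V F ≤ o2 R) →
      ∃ P, IsParS (S : Subgroup G) P ∧ cv (S : Subgroup G) P = ⊥ ∧ ¬ Wf V F ≤ o2 P)
    (hzero : ∀ P, IsParS (S : Subgroup G) P → cv (S : Subgroup G) P = ⊥ → ¬ Wf V F ≤ o2 P →
      ∀ R, IsParS (S : Subgroup G) R → ¬ Wf V F ≤ o2 R → cv (S : Subgroup G) R = ⊥) : UpAt S V F := by
  by_cases hact : ∃ R, IsParS (S : Subgroup G) R ∧ ¬ Wf V F ≤ o2 R
  · obtain ⟨P, hP, hc, hPa⟩ := hone hact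
    exact upAt hFF w h hn hk (hzero P hP hc hPa)
  · push Not at hact
    exact Or.inl hact

/-- **`⟨Z^⟨P*(S)⟩⟩ ≤ E`** from the KEY and `C_Z(R) = 1` for the active types. -/
theorem all_good_of_key {P : Subgroup G} (hFF : StmtM.{u}) (w : WFr S M V F) (hP : IsParS (S : Subgroup G) P)
    (hk : ∀ n F', 1 ≤ n → WFr S M V F' → Fr S M V F' n → BadAt S V F' n →
      ∀ P, IsParS (S : Subgroup G) P → cv (S : Subgroup G) P = ⊥ → ¬ Wf V F' ≤ o2 P →
        Key V F' (BL M (S : Subgroup G) V F' n))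
    (hcv : ∀ F', WFr S M V F' → ∀ R, IsParS (S : Subgroup G) R → ¬ Wf V F' ≤ o2 R → cv (S : Subgroup G) R = ⊥) :
    zl (S : Subgroup G) (NOThreeL.Star.YS (S : Subgroup G)) ≤ EE V F :=
  all_good hFF w hP fun n F' hn w' h' hb => upAt hFF w' h' hn (hk n F' hn w' h' hb) (hcv F' w')

/-- **UpAt** from the KEY and one active type with `C_Z(P) = 1` ((S1)). -/
theorem upAt_one (hFF : StmtM.{u}) (w : WFr S M V F) (h : Fr S M V F n) (hn : 1 ≤ n)
    (hk : ∀ P, IsParS (S : Subgroup G) P → cv (S : Subgroup G) P = ⊥ → ¬ Wf V F ≤ o2 P →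
      Key V F (BL M (S : Subgroup G) V F n))
    (hone : (∃ R, IsParS (S : Subgroup G) R ∧ ¬ Wf V F ≤ o2 R) →
      ∃ P, IsParS (S : Subgroup G) P ∧ cv (S : Subgroup G) P = ⊥ ∧ ¬ Wf V F ≤ o2 P) : UpAt S V F :=
  upAt' hFF w h hn hk hone fun P hP hc hPa _ hR hRa => w.cv_eq h hFF (hk P hP hc hPa) hP hc hPa hR hRa

/-- **`⟨Z^⟨P*(S)⟩⟩ ≤ E`** from the KEY and (S1). -/
theorem all_good_of_one {P : Subgroup G} (hFF : StmtM.{u}) (w : WFr S M V F) (hP : IsParS (S : Subgroup G) P)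
    (hk : ∀ n F', 1 ≤ n → WFr S M V F' → Fr S M V F' n → BadAt S V F' n →
      ∀ P, IsParS (S : Subgroup G) P → cv (S : Subgroup G) P = ⊥ → ¬ Wf V F' ≤ o2 P →
        Key V F' (BL M (S : Subgroup G) V F' n))
    (hone : ∀ n F', 1 ≤ n → WFr S M V F' → Fr S M V F' n → BadAt S V F' n →
      (∃ R, IsParS (S : Subgroup G) R ∧ ¬ Wf V F' ≤ o2 R) →
        ∃ P, IsParS (S : Subgroup G) P ∧ cv (S : Subgroup G) P = ⊥ ∧ ¬ Wf V F' ≤ o2 P) :
    zl (S : Subgroup G) (NOThreeL.Star.YS (S : Subgroup G)) ≤ EE V F :=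
  all_good hFF w hP fun n F' hn w' h' hb => upAt_one hFF w' h' hn (hk n F' hn w' h' hb) (hone n F' hn w' h' hb)

end Cfsg.Agent.Omega.NO3S.NTwo
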